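import Groth.Agent.ModPairLocal.Basic
import Groth.Agent.AicLocal.Basic
import Mathlib

/-!
# Modulus pairs local for finite coverings
-/

set_option autoImplicit false
set_option backward.isDefEq.respectTransparency false
set_option backward.isDefEq.respectTransparency.types false
set_option linter.style.haveILetI false

universe u

open CategoryTheory Limits AlgebraicGeometry ModPair

namespace Groth.Agent.ModPairLocal

/-- Finite locality. -/
def FinLocal (P : Pair.{u}) : Prop :=
  ∀ (X : Pair.{u}) (ι : Type u) (U : ι → Pair.{u}) (v : ∀ i, U i ⟶ X),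
    (∀ i, IsMinimal (U i).mod X.mod (v i).hom ∧ IsFinite (v i).hom) →
    (∀ x : X.total, ∃ (i : ι) (y : (U i).total), (v i).hom.base y = x) →
    ∀ g : P ⟶ X, ∃ (i : ι) (h : P ⟶ U i), h ≫ v i = g

/-- Localisations of absolutely integrally closed rings are absolutely integrally closed. -/
theorem isAIC_localization {A : Type u} [CommRing A] (hA : Curves.IsAIC A) (M : Submonoid A) {S : Type u}
    [CommRing S] [Algebra A S] [IsLocalization M S] : Curves.IsAIC S := by
  intro f hf hd
  let c := algebraMap A S (IsLocalization.commonDenom M f.support f.coeff)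
  have hu : IsUnit c := IsLocalization.map_units S _
  have hlift : f.scaleRoots c ∈ Polynomial.lifts (algebraMap A S) :=
    IsLocalization.scaleRoots_commonDenom_mem_lifts M f (by rw [hf.leadingCoeff]; exact ⟨1, map_one _⟩)
  obtain ⟨h, e, dd, m⟩ := Polynomial.lifts_and_natDegree_eq_and_monic hlift
    (Polynomial.monic_scaleRoots_iff c |>.2 hf)
  obtain ⟨r, hr⟩ := hA h m (by rw [dd, Polynomial.natDegree_scaleRoots]; exact hd)
  obtain ⟨u, hu'⟩ := hu
  refine ⟨(↑u⁻¹ : S) * algebraMap A S r, ?_⟩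
  have h1 : Polynomial.eval₂ (RingHom.id S) (algebraMap A S r) (f.scaleRoots c) = 0 := by
    rw [← e, Polynomial.eval₂_map, RingHom.id_comp, Polynomial.eval₂_at_apply, hr, map_zero]
  have h2 : algebraMap A S r = (RingHom.id S) c * ((↑u⁻¹ : S) * algebraMap A S r) := by
    rw [RingHom.id_apply, ← mul_assoc, ← hu', Units.mul_inv, one_mul]
  rw [h2, Polynomial.scaleRoots_eval₂_mul, RingHom.id_apply, ← hu', ← Units.val_pow_eq_pow_val,
    Units.mul_right_eq_zero] at h1
  exact h1

theorem isAIC_surjective {A S : Type u} [CommRing A] [CommRing S] (hA : Curves.IsAIC A) (φ : A →+* S)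
    (hφ : Function.Surjective φ) : Curves.IsAIC S := by
  intro f hf hd
  haveI : Nontrivial S := Polynomial.nontrivial_iff.1 ⟨⟨f, 0, fun h => by rw [h] at hd; simp at hd⟩⟩
  obtain ⟨h, e, dd, m⟩ := Polynomial.lifts_and_natDegree_eq_and_monic (f := φ)
    ((Polynomial.lifts_iff_coeff_lifts _).2 fun n => hφ _) hf
  obtain ⟨r, hr⟩ := hA h m (by omega)
  refine ⟨φ r, ?_⟩
  rw [← e, Polynomial.eval_map, Polynomial.eval₂_at_apply, hr, map_zero]

theorem isAlgClosed_fractionRing {A : Type u} [CommRing A] [IsDomain A] (hA : Curves.IsAIC A) :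
    IsAlgClosed (FractionRing A) :=
  IsAlgClosed.of_exists_root _ fun f hf hirr =>
    isAIC_localization hA (nonZeroDivisors A) f hf (Polynomial.natDegree_pos_iff_degree_pos.2
      (Polynomial.degree_pos_of_irreducible hirr))

theorem cartier_spec (P : Pair.{u}) [IsAffine P.total] {g : Γ(P.total, ⊤)}
    (he : P.mod.ideal ⟨⊤, isAffineOpen_top _⟩ = Ideal.span {g}) {R : CommRingCat.{u}}
    (φ : Γ(P.total, ⊤) ⟶ R) (h : φ.hom g ∈ nonZeroDivisors R) :
    BlowUp.IsEffCartierIdeal (P.mod.comap (Spec.map φ ≫ P.total.isoSpec.inv)) := by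
  intro x
  refine ⟨⟨⊤, isAffineOpen_top _⟩, trivial, (Spec.map φ ≫ P.total.isoSpec.inv).appTop g, ?_, ?_⟩
  · have e : (Spec.map φ ≫ P.total.isoSpec.inv).appTop = φ ≫ (Scheme.ΓSpecIso R).inv := by
      rw [Scheme.Hom.comp_appTop, Scheme.ΓSpecIso_inv_naturality φ]
      congr 1
      rw [← cancel_mono P.total.isoSpec.hom.appTop, ← Scheme.Hom.comp_appTop, Iso.hom_inv_id,
        Scheme.isoSpec_hom, Scheme.toSpecΓ_appTop]
      simp
    rw [e, CommRingCat.comp_apply]
    exact map_mem_nonZeroDivisors_of_bijective _ h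
  · rw [FpqcDescent.ideal_comap_of_isAffine, he, Ideal.map_span, Set.image_singleton]
where
  map_mem_nonZeroDivisors_of_bijective {R : CommRingCat.{u}} (x : R) (h : x ∈ nonZeroDivisors R) :
      (Scheme.ΓSpecIso R).inv x ∈ nonZeroDivisors Γ(Spec R, ⊤) := by
    let e := (Scheme.ΓSpecIso R).symm.commRingCatIsoToRingEquiv
    refine mem_nonZeroDivisors_iff_right.2 fun z hz => ?_
    obtain ⟨z, rfl⟩ := e.surjective z
    have hz' : e (z * x) = 0 := (map_mul e z x).trans hz
    rw [map_eq_zero_iff _ e.injective] at hz'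
    rw [(mem_nonZeroDivisors_iff_right.1 h) z hz', map_zero]

theorem finite_consequences (P : Pair.{u}) [IsAffine P.total] [IsLocalRing Γ(P.total, ⊤)] (hf : FinLocal P) :
    IsDomain Γ(P.total, ⊤) ∧ Curves.IsAIC Γ(P.total, ⊤) := by
  obtain ⟨g, hg, he, -⟩ := exists_generator P
  let A := Γ(P.total, ⊤)
  have key : ∀ {ι : Type u} (R : ι → CommRingCat.{u}) (φ : ∀ i, A ⟶ R i), (∀ i, (φ i).hom.Finite) →
      (∀ i, (φ i).hom g ∈ nonZeroDivisors (R i)) → (∀ x : Spec A, ∃ i, x ∈ Set.range (Spec.map (φ i))) →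
      ∃ i, ∃ σ : R i ⟶ A, φ i ≫ σ = 𝟙 A := by
    intro ι R φ hfin hnzd hcov
    obtain ⟨i, h, hh⟩ := hf P ι
      (fun i => ⟨Spec (R i), P.mod.comap (Spec.map (φ i) ≫ P.total.isoSpec.inv), cartier_spec P he (φ i) (hnzd i)⟩)
      (fun i => ⟨Spec.map (φ i) ≫ P.total.isoSpec.inv, le_refl _⟩)
      (fun i => ⟨rfl, by
        haveI : IsFinite (Spec.map (φ i)) := by rw [IsFinite.SpecMap_iff]; exact hfin i
        show IsFinite (Spec.map (φ i) ≫ P.total.isoSpec.inv)
        infer_instance⟩)
      (fun x => by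
        obtain ⟨i, y, hy⟩ := hcov (P.total.isoSpec.hom x)
        refine ⟨i, y, ?_⟩
        show (Spec.map (φ i) ≫ P.total.isoSpec.inv) y = x
        rw [Scheme.Hom.comp_apply, hy, ← Scheme.Hom.comp_apply, Iso.hom_inv_id]
        rfl) (𝟙 P)
    obtain ⟨σ, hσ⟩ := Spec.map_surjective (P.total.isoSpec.inv ≫ h.hom)
    refine ⟨i, σ, Spec.map_injective ?_⟩
    have hh' : h.hom ≫ Spec.map (φ i) ≫ P.total.isoSpec.inv = 𝟙 _ := congrArg Pair.Hom.hom hh
    rw [Spec.map_comp, hσ, Spec.map_id, ← cancel_mono P.total.isoSpec.inv, Category.assoc, Category.assoc,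
      hh', Category.comp_id, Category.id_comp]
  constructor
  · obtain ⟨⟨p, hp⟩, σ, hσ⟩ := key (ι := minimalPrimes A) (fun p => CommRingCat.of (A ⧸ p.1))
      (fun p => CommRingCat.ofHom (Ideal.Quotient.mk p.1))
      (fun p => RingHom.Finite.of_surjective _ Ideal.Quotient.mk_surjective)
      (fun p => by
        haveI : p.1.IsPrime := p.2.1.1
        refine mem_nonZeroDivisors_of_ne_zero ?_
        intro h0
        exact Set.disjoint_left.1 (Ideal.disjoint_nonZeroDivisors_of_mem_minimalPrimes p.2)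
          (Ideal.Quotient.eq_zero_iff_mem.1 h0) hg)
      (fun x => by
        haveI := x.2
        obtain ⟨p, hp, hle⟩ := Ideal.exists_minimalPrimes_le (I := ⊥) (J := x.asIdeal) bot_le
        refine ⟨⟨p, hp⟩, ?_⟩
        have : (x : PrimeSpectrum A) ∈ Set.range (PrimeSpectrum.comap (Ideal.Quotient.mk p)) := by
          rw [range_comap_of_surjective _ _ Ideal.Quotient.mk_surjective, Ideal.mk_ker]
          exact hle
        exact this)
    have hbot : p = ⊥ := eq_bot_iff.2 fun a ha => by
      have := ConcreteCategory.congr_hom hσ a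
      simp only [CommRingCat.comp_apply, CommRingCat.id_apply] at this
      rw [← this, show (CommRingCat.ofHom (Ideal.Quotient.mk p)) a = 0 from Ideal.Quotient.eq_zero_iff_mem.2 ha,
        map_zero]
      exact zero_mem _
    have hpp : p.IsPrime := hp.1.1
    rw [hbot] at hpp
    exact IsDomain.of_bot_isPrime A (hbp := hpp)
  · intro f hf hd
    haveI := hf.finite_adjoinRoot
    haveI : Module.Free A (AdjoinRoot f) := hf.free_adjoinRoot
    have hinj : Function.Injective (algebraMap A (AdjoinRoot f)) := by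
      refine (injective_iff_map_eq_zero _).2 fun a ha => ?_
      by_contra ha0
      have h1 : f ∣ Polynomial.C a := AdjoinRoot.mk_eq_zero.1 ha
      have h2 : (Polynomial.C a).natDegree < f.natDegree := by rw [Polynomial.natDegree_C]; exact hd
      exact hf.not_dvd_of_natDegree_lt (Polynomial.C_ne_zero.2 ha0) h2 h1
    obtain ⟨-, σ, hσ⟩ := key (ι := PUnit.{u+1}) (fun _ => CommRingCat.of (AdjoinRoot f))
      (fun _ => CommRingCat.ofHom (algebraMap A (AdjoinRoot f)))
      (fun _ => RingHom.finite_algebraMap.2 inferInstance)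
      (fun _ => by
        refine mem_nonZeroDivisors_iff_right.2 fun z hz => ?_
        have hz' : g • z = 0 := by rw [Algebra.smul_def, mul_comm]; exact hz
        let b := Module.Free.chooseBasis A (AdjoinRoot f)
        refine b.repr.injective (Finsupp.ext fun i => ?_)
        have := congrArg (fun w => b.repr w i) hz'
        simp only [map_smul, Finsupp.smul_apply, map_zero, Finsupp.zero_apply, smul_eq_mul] at this
        rw [map_zero, Finsupp.zero_apply]
        exact (mem_nonZeroDivisors_iff_right.1 hg) _ ((mul_comm _ _).trans this))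
      (fun x => by
        haveI := (show PrimeSpectrum A from x).2
        obtain ⟨Q, -, hQ1, hQ2⟩ := Ideal.exists_ideal_over_prime_of_isIntegral (S := AdjoinRoot f)
          (show PrimeSpectrum A from x).asIdeal (⊥ : Ideal (AdjoinRoot f)) (fun a ha => by
            rw [Ideal.mem_comap, Ideal.mem_bot] at ha
            rw [hinj (ha.trans (map_zero _).symm)]
            exact zero_mem _)
        exact ⟨⟨⟩, ⟨Q, hQ1⟩, PrimeSpectrum.ext hQ2⟩)
    refine ⟨σ.hom (AdjoinRoot.root f), ?_⟩
    have hc : σ.hom.comp (algebraMap A (AdjoinRoot f)) = RingHom.id A := congrArg CommRingCat.Hom.hom hσ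
    have h0 := congrArg σ.hom (AdjoinRoot.eval₂_root f)
    rw [Polynomial.hom_eval₂, map_zero] at h0
    rw [← AdjoinRoot.algebraMap_eq, hc] at h0
    exact h0

theorem finLocal_of_aic (P : Pair.{u}) [IsAffine P.total] [IsDomain Γ(P.total, ⊤)]
    (hA : Curves.IsAIC Γ(P.total, ⊤)) : FinLocal P := by
  intro X ι U v hv hcov g
  let η : PrimeSpectrum Γ(P.total, ⊤) := ⟨⊥, Ideal.isPrime_bot⟩
  let g' := P.total.isoSpec.inv ≫ g.hom
  obtain ⟨i, y, hy⟩ := hcov (g'.base η)
  obtain ⟨hm, hw⟩ := hv i
  haveI := hw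
  obtain ⟨z, -, hz⟩ := Scheme.Pullback.exists_preimage_pullback (f := (v i).hom) (g := g') y η hy
  obtain ⟨s, hs⟩ := AicLocal.exists_section_of_finite hA (pullback.snd (v i).hom g') z (by rw [hz])
  let h := P.total.isoSpec.hom ≫ s ≫ pullback.fst (v i).hom g'
  have hh : h ≫ (v i).hom = g.hom := by
    simp only [h, g', Category.assoc, pullback.condition, reassoc_of% hs]
    exact Iso.hom_inv_id_assoc _ _
  refine ⟨i, ⟨h, ?_⟩, Pair.Hom.ext hh⟩
  show P.mod ≤ (U i).mod.comap h
  rw [hm, ← Scheme.IdealSheafData.comap_comp, hh]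
  exact g.cond

end Groth.Agent.ModPairLocal
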