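import Groth.Agent.ModPairLocal.Core
import Groth.Agent.ModPairLocal.Finite
import Mathlib

/-!
# Lattices over semi-valuation rings, and absolutely integrally closed local rings
-/

set_option autoImplicit false
set_option backward.isDefEq.respectTransparency false
set_option linter.style.haveILetI false

universe u v

namespace Groth.Agent.ModPairLocal

variable {A : Type u} [CommRing A] {g : A}

/-- An absolutely integrally closed local ring is henselian. -/
theorem henselian_of_aic [IsLocalRing A] (hA : Curves.IsAIC A) : HenselianLocalRing A := by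
  suffices h : ∀ n (f : Polynomial A), f.Monic → f.natDegree = n → ∀ a₀, f.eval a₀ ∈ IsLocalRing.maximalIdeal A →
      ∃ a, f.IsRoot a ∧ a - a₀ ∈ IsLocalRing.maximalIdeal A from
    ⟨fun f hf a₀ h₁ _ => h _ f hf rfl a₀ h₁⟩
  intro n
  induction n with
  | zero =>
    intro f hf hd a₀ h₁
    rw [hf.natDegree_eq_zero.1 hd, Polynomial.eval_one] at h₁
    exact absurd ((Ideal.eq_top_iff_one _).2 h₁) (IsLocalRing.maximalIdeal.isMaximal A).ne_top
  | succ n ih =>
    intro f hf hd a₀ h₁
    obtain ⟨r, hr⟩ := hA f hf (by omega)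
    obtain ⟨q, rfl⟩ := Polynomial.dvd_iff_isRoot.2 (show f.IsRoot r from hr)
    have hq : q.Monic := (Polynomial.monic_X_sub_C r).of_mul_monic_left hf
    rw [(Polynomial.monic_X_sub_C r).natDegree_mul hq, Polynomial.natDegree_X_sub_C] at hd
    rw [Polynomial.eval_mul, Polynomial.eval_sub, Polynomial.eval_X, Polynomial.eval_C] at h₁
    rcases (IsLocalRing.maximalIdeal.isMaximal A).isPrime.mem_or_mem h₁ with h | h
    · refine ⟨r, by simp [Polynomial.IsRoot], ?_⟩
      rw [← neg_sub]
      exact neg_mem h
    · obtain ⟨a, ha, ha'⟩ := ih q hq (by omega) a₀ h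
      exact ⟨a, by simp [Polynomial.IsRoot, show q.eval a = 0 from ha], ha'⟩

variable (H : ∀ a b : A, ∀ n : ℕ, g ^ n ∈ Ideal.span {a, b} → a ∣ b ∨ b ∣ a)

include H in
/-- A finitely generated ideal containing a power of `g` is principal. -/
theorem exists_span_eq (J : Ideal A) (hJ : J.FG) {K : ℕ} (hK : g ^ K ∈ J) : ∃ c, J = Ideal.span {c} := by
  classical
  obtain ⟨S, rfl⟩ := hJ
  have key : ∀ S : Finset A, ∃ c, Ideal.span (insert (g ^ K) (S : Set A)) = Ideal.span {c} := by
    intro S
    induction S using Finset.induction with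
    | empty => exact ⟨g ^ K, by simp⟩
    | insert s S hs ih =>
      obtain ⟨c, hc⟩ := ih
      have e : Ideal.span (insert (g ^ K) ((insert s S : Finset A) : Set A)) = Ideal.span {s, c} := by
        rw [Finset.coe_insert, Set.insert_comm, Ideal.span_insert, hc, ← Ideal.span_insert]
      have hg : g ^ K ∈ Ideal.span {s, c} := e ▸ Ideal.subset_span (Set.mem_insert _ _)
      rcases H s c K hg with h | h
      · refine ⟨s, e.trans ?_⟩
        rw [Ideal.span_insert, sup_eq_left]
        exact Ideal.span_singleton_le_span_singleton.2 h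
      · refine ⟨c, e.trans ?_⟩
        rw [Ideal.span_insert, sup_eq_right]
        exact Ideal.span_singleton_le_span_singleton.2 h
  obtain ⟨c, hc⟩ := key S
  exact ⟨c, le_antisymm ((Ideal.span_mono (Set.subset_insert _ _)).trans hc.le)
    (hc.ge.trans (Ideal.span_le.2 (Set.insert_subset hK Submodule.subset_span)))⟩

variable {B : Type v} [CommRing B] [Algebra A B] [IsLocalization.Away g B]

include H in
/-- A finitely generated submodule of `B` spanning it is free of rank one. -/
theorem free_rankOne (hg : g ∈ nonZeroDivisors A) (I : Submodule A B) (hI : I.FG) {K : ℕ}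
    (hK : algebraMap A B (g ^ K) ∈ I) : Module.Free A I := by
  classical
  obtain ⟨S, hS⟩ := hI
  obtain ⟨⟨_, N, rfl⟩, hN⟩ := IsLocalization.exist_integer_multiples (Submonoid.powers g) S (id : B → B)
  let μ : B →ₗ[A] B := LinearMap.mulLeft A (algebraMap A B (g ^ N))
  have hu : IsUnit (algebraMap A B (g ^ N)) := by
    rw [map_pow]; exact (IsLocalization.Away.algebraMap_isUnit g).pow N
  have hμ : Function.Injective μ := fun x y h => hu.mul_right_inj.1 h
  let ι : A →ₗ[A] B := Algebra.linearMap A B
  have hι : Function.Injective ι := IsLocalization.injective B (Submonoid.powers_le.2 hg)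
  have hle : I.map μ ≤ LinearMap.range ι := by
    rw [← hS, Submodule.map_span, Submodule.span_le]
    rintro _ ⟨x, hx, rfl⟩
    obtain ⟨a, ha⟩ := hN x hx
    exact ⟨a, ha.trans (Algebra.smul_def _ _)⟩
  let J : Ideal A := (I.map μ).comap ι
  have hJI : Submodule.map ι J = I.map μ := Submodule.map_comap_eq_of_le hle
  have hJ : J.FG := Submodule.fg_of_fg_map_injective ι hι (hJI ▸ Submodule.FG.map μ ⟨S, hS⟩)
  have hK' : g ^ (N + K) ∈ J := by
    refine ⟨algebraMap A B (g ^ K), hK, ?_⟩
    simp [μ, ι, pow_add]
  obtain ⟨c, hc⟩ := exists_span_eq H J hJ hK'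
  have hc0 : c ∈ nonZeroDivisors A := by
    obtain ⟨d, hd⟩ := Ideal.mem_span_singleton'.1 (hc ▸ hK' : g ^ (N + K) ∈ Ideal.span {c})
    have := pow_mem hg (N + K)
    rw [← hd] at this
    exact (mul_mem_nonZeroDivisors.1 this).2
  let e₁ : I ≃ₗ[A] (I.map μ : Submodule A B) := Submodule.equivMapOfInjective μ hμ I
  let e₂ : J ≃ₗ[A] (I.map μ : Submodule A B) :=
    (Submodule.equivMapOfInjective ι hι J).trans (LinearEquiv.ofEq _ _ hJI)
  let e₃ : A ≃ₗ[A] J := (LinearEquiv.ofInjective (LinearMap.toSpanSingleton A A c) (fun x y h =>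
    sub_eq_zero.1 ((mem_nonZeroDivisors_iff_right.1 hc0) _ (by
      have h' : x * c = y * c := h
      rw [sub_mul, h', sub_self])))).trans
    (LinearEquiv.ofEq _ _ (by rw [hc, LinearMap.range_toSpanSingleton]))
  exact Module.Free.of_equiv (e₃.trans (e₂.trans e₁.symm))

include H in
/-- A finitely generated submodule of `Bⁿ` spanning it is free. -/
theorem free_lattice (hg : g ∈ nonZeroDivisors A) : ∀ (n : ℕ) (M : Submodule A (Fin n → B)), M.FG →
    (∀ x : Fin n → B, ∃ N : ℕ, g ^ N • x ∈ M) → Module.Free A M
  | 0, M, _, _ => Module.Free.of_subsingleton A M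
  | n + 1, M, hM, hspan => by
    haveI : Module.Finite A M := Module.Finite.of_fg hM
    let π : M →ₗ[A] B := (LinearMap.proj 0).comp M.subtype
    let I : Submodule A B := LinearMap.range π
    obtain ⟨K, hK⟩ := hspan (Pi.single (0 : Fin (n + 1)) (1 : B))
    haveI : Module.Free A I := free_rankOne H hg I (Submodule.fg_range π) (K := K) ⟨⟨_, hK⟩, by
      simp [π, Algebra.smul_def]⟩
    obtain ⟨l, hl⟩ := Module.projective_lifting_property π.rangeRestrict LinearMap.id π.surjective_rangeRestrict
    let ι : (Fin n → B) →ₗ[A] (Fin (n + 1) → B) :=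
      { toFun := fun x => Fin.cons 0 x
        map_add' := fun x y => by funext i; refine Fin.cases ?_ ?_ i <;> simp
        map_smul' := fun a x => by funext i; refine Fin.cases ?_ ?_ i <;> simp }
    let M' : Submodule A (Fin n → B) := M.comap ι
    let ι' : M' →ₗ[A] M := (ι.comp M'.subtype).codRestrict M fun x => x.2
    have hπι : ∀ x, π.rangeRestrict (ι' x) = 0 := fun x => Subtype.ext rfl
    have hsec : ∀ i, π.rangeRestrict (l i) = i := fun i => LinearMap.congr_fun hl i
    let F : I × M' →ₗ[A] M := l.coprod ι'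
    have hF : Function.Bijective F := by
      refine ⟨(injective_iff_map_eq_zero F).2 ?_, fun m => ?_⟩
      · rintro ⟨i, x⟩ h
        have h' : l i + ι' x = 0 := h
        have hi : i = 0 := by
          have := congrArg π.rangeRestrict h'
          rw [map_add, map_zero, hsec, hπι, add_zero] at this
          exact this
        subst hi
        have hx : ι' x = 0 := by rwa [map_zero, zero_add] at h'
        refine Prod.ext rfl (Subtype.ext (funext fun j => ?_))
        have := congrArg (fun z : M => (z : Fin (n + 1) → B) j.succ) hx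
        simpa [ι', ι] using this
      · let d : M := m - l (π.rangeRestrict m)
        have hd0 : (d : Fin (n + 1) → B) 0 = 0 := by
          have : π.rangeRestrict d = 0 := by simp [d, hsec]
          exact congrArg Subtype.val this
        have hd : ι (Fin.tail (d : Fin (n + 1) → B)) = d := by
          show Fin.cons 0 (Fin.tail (d : Fin (n + 1) → B)) = (d : Fin (n + 1) → B)
          conv_rhs => rw [← Fin.cons_self_tail (d : Fin (n + 1) → B), hd0]
        refine ⟨(π.rangeRestrict m, ⟨Fin.tail (d : Fin (n + 1) → B), show ι _ ∈ M from hd.symm ▸ d.2⟩), ?_⟩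
        refine Eq.trans ?_ (add_sub_cancel (l (π.rangeRestrict m)) m)
        exact congrArg (l (π.rangeRestrict m) + ·) (Subtype.ext hd)
    let e := LinearEquiv.ofBijective F hF
    haveI : Module.Finite A M' := Module.Finite.of_surjective ((LinearMap.snd A I M').comp e.symm.toLinearMap)
      fun y => ⟨e (0, y), by simp [LinearMap.comp_apply]⟩
    haveI : Module.Free A M' := free_lattice hg n M' (Module.Finite.iff_fg.1 ‹Module.Finite A M'›) fun x => by
      obtain ⟨N, hN⟩ := hspan (ι x)
      exact ⟨N, show ι (g ^ N • x) ∈ M by rwa [map_smul]⟩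
    exact Module.Free.of_equiv e

include H in
/-- A finite free algebra over `B` is the localisation of a finite free algebra over `A`. -/
theorem exists_free_model (hg : g ∈ nonZeroDivisors A) (V : Type v) [CommRing V] [Algebra B V] [Algebra A V]
    [IsScalarTower A B V] [Module.Finite B V] [Module.Free B V] [Nontrivial B] :
    ∃ C : Subalgebra A V, Module.Finite A C ∧ Module.Free A C ∧ ∀ x : V, ∃ N : ℕ, g ^ N • x ∈ C := by
  classical
  let b := Module.finBasis B V
  have hint : ∀ i, ∃ N : ℕ, IsIntegral A (g ^ N • b i) := fun i => by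
    haveI : Algebra.IsIntegral B V := inferInstance
    obtain ⟨⟨_, N, rfl⟩, hN⟩ :=
      IsIntegral.exists_multiple_integral_of_isLocalization (Submonoid.powers g) (R := A) (Rₘ := B) (b i)
        (Algebra.IsIntegral.isIntegral (b i))
    exact ⟨N, hN⟩
  choose N hN using hint
  let C : Subalgebra A V := Algebra.adjoin A (Set.range fun i => g ^ N i • b i)
  have hC : (Subalgebra.toSubmodule C).FG :=
    fg_adjoin_of_finite (Set.finite_range _) (by rintro _ ⟨i, rfl⟩; exact hN i)
  have hspan : ∀ x : V, ∃ M : ℕ, g ^ M • x ∈ C := by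
    intro x
    let S : Submodule A V :=
      { carrier := {x | ∃ M : ℕ, g ^ M • x ∈ C}
        zero_mem' := ⟨0, by rw [smul_zero]; exact zero_mem C⟩
        add_mem' := by
          rintro x y ⟨M₁, h₁⟩ ⟨M₂, h₂⟩
          refine ⟨M₁ + M₂, ?_⟩
          rw [smul_add]
          refine add_mem ?_ ?_
          · rw [add_comm, pow_add, mul_smul]; exact C.smul_mem h₁ _
          · rw [pow_add, mul_smul]; exact C.smul_mem h₂ _
        smul_mem' := by
          rintro a x ⟨M, h⟩
          exact ⟨M, by rw [smul_comm]; exact C.smul_mem h a⟩ }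
    change x ∈ S
    rw [← b.sum_repr x]
    refine Submodule.sum_mem _ fun i _ => ?_
    obtain ⟨⟨a, ⟨_, M, rfl⟩⟩, hM⟩ := IsLocalization.surj (Submonoid.powers g) (b.repr x i)
    refine ⟨M + N i, ?_⟩
    have e : g ^ (M + N i) • (b.repr x i • b i) = a • (g ^ N i • b i) := by
      rw [pow_add, mul_smul, smul_comm (g ^ N i) (b.repr x i), ← smul_assoc]
      rw [show g ^ M • b.repr x i = algebraMap A B a by rw [Algebra.smul_def, mul_comm]; exact hM,
        algebraMap_smul]
    rw [e]
    exact C.smul_mem (Algebra.subset_adjoin ⟨i, rfl⟩) a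
  refine ⟨C, Module.Finite.of_fg hC, ?_, hspan⟩
  let e : V ≃ₗ[A] (Fin (Module.finrank B V) → B) := b.equivFun.restrictScalars A
  haveI := free_lattice H hg _ ((Subalgebra.toSubmodule C).map e.toLinearMap) (hC.map _) fun x => by
    obtain ⟨M, hM⟩ := hspan (e.symm x)
    exact ⟨M, ⟨_, hM, by simp⟩⟩
  exact Module.Free.of_equiv (e.submoduleMap (Subalgebra.toSubmodule C)).symm

end Groth.Agent.ModPairLocal
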