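import Groth.Agent.ModPairLocal.Basic
import Mathlib

/-!
# Spectra of semi-valuation rings lift along admissible blow-ups
-/

set_option autoImplicit false
set_option backward.isDefEq.respectTransparency false
set_option backward.isDefEq.respectTransparency.types false
set_option linter.style.haveILetI false

universe u

open CategoryTheory Limits AlgebraicGeometry ModPair

namespace Groth.Agent.ModPairLocal

/-- Gluing maps to a fibre product ring. -/
theorem exists_factor_ring {A B K R : Type u} [CommRing A] [CommRing B] [Field K] [CommRing R]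
    (α : A →+* B) (hinj : Function.Injective α) (q : Ideal A) (β : B →+* K) (γ : A ⧸ q →+* K)
    (hcomm : β.comp α = γ.comp (Ideal.Quotient.mk q)) (hsurj : ∀ b, β b = 0 → ∃ a ∈ q, α a = b)
    (φ₁ : R →+* B) (φ₂ : R →+* A ⧸ q) (h : β.comp φ₁ = γ.comp φ₂) :
    ∃ ψ : R →+* A, α.comp ψ = φ₁ := by
  have hex : ∀ r, ∃ a, α a = φ₁ r := fun r => by
    obtain ⟨a₀, ha₀⟩ := Ideal.Quotient.mk_surjective (φ₂ r)
    obtain ⟨c, -, hc⟩ := hsurj (α a₀ - φ₁ r) (by
      rw [map_sub, ← RingHom.comp_apply β α, hcomm, ← RingHom.comp_apply β φ₁, h, RingHom.comp_apply,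
        RingHom.comp_apply, ha₀, sub_self])
    exact ⟨a₀ - c, by rw [map_sub, hc, sub_sub_cancel]⟩
  choose ψ hψ using hex
  refine ⟨{ toFun := ψ, map_one' := hinj ?_, map_mul' := fun x y => hinj ?_,
            map_zero' := hinj ?_, map_add' := fun x y => hinj ?_ }, RingHom.ext hψ⟩
  · rw [hψ, map_one, map_one]
  · rw [map_mul, hψ, hψ, hψ, map_mul]
  · rw [hψ, map_zero, map_zero]
  · rw [map_add, hψ, hψ, hψ, map_add]

theorem zarLocal_of_isLocalRing (P : Pair.{u}) [IsAffine P.total] [IsLocalRing Γ(P.total, ⊤)] : ZarLocal P := by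
  intro X ι U v hv hcov g
  obtain ⟨i, y, hy⟩ := hcov (g.hom.base (closedPt P.total))
  obtain ⟨hm, ho, -⟩ := hv i
  haveI := ho
  have hr : Set.range g.hom ⊆ Set.range (v i).hom := by
    rintro _ ⟨x, rfl⟩
    exact ((specializes_closedPt P.total x).map g.hom.continuous).mem_open
      (v i).hom.isOpenEmbedding.isOpen_range ⟨y, hy⟩
  refine ⟨i, ⟨IsOpenImmersion.lift (v i).hom g.hom hr, ?_⟩, Pair.Hom.ext (IsOpenImmersion.lift_fac _ _ _)⟩
  show P.mod ≤ (U i).mod.comap _
  rw [hm, ← Scheme.IdealSheafData.comap_comp, IsOpenImmersion.lift_fac]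
  exact g.cond

theorem blowLocal_of_semiVal (P : Pair.{u}) [IsAffine P.total] [IsLocalRing Γ(P.total, ⊤)]
    [IsAffine (ModPair.interior P.mod : Scheme.{u})] [IsLocalRing Γ((ModPair.interior P.mod : Scheme.{u}), ⊤)]
    (h : ∀ p : (ModPair.interior P.mod : Scheme.{u}), IsClosed ({p} : Set (ModPair.interior P.mod : Scheme.{u})) →
      ValuationRing (Γ(P.total, ⊤) ⧸ (P.total.toSpecΓ.base ((ModPair.interior P.mod).ι.base p)).asIdeal) ∧
        Set.BijOn (algebraMap Γ(P.total, ⊤)
            (Localization.AtPrime (P.total.toSpecΓ.base ((ModPair.interior P.mod).ι.base p)).asIdeal))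
          ((P.total.toSpecΓ.base ((ModPair.interior P.mod).ι.base p)).asIdeal : Set Γ(P.total, ⊤))
          (IsLocalRing.maximalIdeal
            (Localization.AtPrime (P.total.toSpecΓ.base ((ModPair.interior P.mod).ι.base p)).asIdeal) :
            Set (Localization.AtPrime (P.total.toSpecΓ.base ((ModPair.interior P.mod).ι.base p)).asIdeal))) :
    BlowLocal P := by
  obtain ⟨g, hg, -, hint⟩ := exists_generator P
  let D := ModPair.interior P.mod
  let A := Γ(P.total, ⊤)
  let B := Γ(D.toScheme, ⊤)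
  letI : Algebra A B := interiorAlg P
  haveI : IsLocalization.Away g B := isLocalization_basic g D hint
  haveI : IsAffine D.toScheme := ‹IsAffine (ModPair.interior P.mod : Scheme.{u})›
  haveI : IsLocalRing B := ‹IsLocalRing Γ((ModPair.interior P.mod : Scheme.{u}), ⊤)›
  let q : Ideal A := qIdeal (A := A) (B := B)
  haveI hprime : q.IsPrime := Ideal.IsPrime.comap _
  let p : D.toScheme := closedPt D.toScheme
  have hp : IsClosed ({p} : Set D.toScheme) := by
    have h1 : IsClosed ({IsLocalRing.closedPoint B} : Set (PrimeSpectrum B)) :=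
      IsLocalRing.isClosed_singleton_closedPoint _
    have h2 := (Scheme.homeoOfIso D.toScheme.isoSpec).symm.isClosedMap _ h1
    rw [Set.image_singleton] at h2
    exact h2
  obtain ⟨hval, hbij⟩ : ValuationRing (A ⧸ q) ∧
      Set.BijOn (algebraMap A (Localization.AtPrime q)) (q : Set A)
        (IsLocalRing.maximalIdeal (Localization.AtPrime q) : Set (Localization.AtPrime q)) := by
    have key : ∀ (J : Ideal A) [J.IsPrime], J = q → (ValuationRing (A ⧸ J) ∧
        Set.BijOn (algebraMap A (Localization.AtPrime J)) (J : Set A)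
          (IsLocalRing.maximalIdeal (Localization.AtPrime J) : Set (Localization.AtPrime J))) →
        (ValuationRing (A ⧸ q) ∧ Set.BijOn (algebraMap A (Localization.AtPrime q)) (q : Set A)
          (IsLocalRing.maximalIdeal (Localization.AtPrime q) : Set (Localization.AtPrime q))) := by
      intro J _ hJ hh
      subst hJ
      exact hh
    exact key _ (toSpecΓ_closedPt P) (h p hp)
  haveI := hval
  have hinj : Function.Injective (algebraMap A B) :=
    IsLocalization.injective B (Submonoid.powers_le.2 hg)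
  have hgq : g ∉ q := fun hh => (IsLocalRing.mem_maximalIdeal _).1 hh (IsLocalization.Away.algebraMap_isUnit g)
  haveI : IsLocalization.AtPrime B q := IsLocalization.of_le_of_exists_dvd (Submonoid.powers g) q.primeCompl
    (Submonoid.powers_le.2 hgq) (fun s hs => by
      obtain ⟨N, hN⟩ := exists_dvd_of_notMem (g := g) (B := B) hs
      exact ⟨g ^ N, ⟨N, rfl⟩, hN⟩)
  let e := IsLocalization.algEquiv q.primeCompl (Localization.AtPrime q) B
  have hmax : ∀ b ∈ IsLocalRing.maximalIdeal B, ∃ a ∈ q, algebraMap A B a = b := by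
    intro b hb
    have hb' : e.symm b ∈ IsLocalRing.maximalIdeal (Localization.AtPrime q) := by
      rw [IsLocalRing.mem_maximalIdeal]
      intro hu
      exact (IsLocalRing.mem_maximalIdeal _).1 hb (by simpa using hu.map e)
    obtain ⟨a, ha, hab⟩ := hbij.surjOn hb'
    exact ⟨a, ha, by rw [← e.commutes a, hab, AlgEquiv.apply_symm_apply]⟩
  intro Q X qq hqq g₀
  obtain ⟨hqmin, hqprop, hqiso⟩ := hqq
  haveI := hqprop
  haveI := hqiso
  -- the lift on the interior
  have hDr : Set.range (D.ι ≫ g₀.hom) ⊆ Set.range (ModPair.interior X.mod).ι := by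
    rintro _ ⟨x, rfl⟩
    rw [Scheme.Opens.range_ι]
    exact ModPairFrac.interior_le_preimage g₀.cond x.2
  let jU := IsOpenImmersion.lift (ModPair.interior X.mod).ι (D.ι ≫ g₀.hom) hDr
  let j : D.toScheme ⟶ Q.total := jU ≫ inv (qq.hom ∣_ ModPair.interior X.mod) ≫ (qq.hom ⁻¹ᵁ ModPair.interior X.mod).ι
  have hj : j ≫ qq.hom = D.ι ≫ g₀.hom := by
    simp only [j, Category.assoc, ← morphismRestrict_ι, IsIso.inv_hom_id_assoc]
    exact IsOpenImmersion.lift_fac _ _ _
  -- the valuative lift
  let K := FractionRing (A ⧸ q)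
  let γ : A ⧸ q →+* K := algebraMap _ _
  let β : B →+* K := IsLocalization.lift (M := q.primeCompl) (g := γ.comp (Ideal.Quotient.mk q)) fun s =>
    IsUnit.mk0 _ (by
      rw [RingHom.comp_apply, ne_eq, map_eq_zero_iff γ (IsFractionRing.injective _ _), Ideal.Quotient.eq_zero_iff_mem]
      exact s.2)
  have hcomm : β.comp (algebraMap A B) = γ.comp (Ideal.Quotient.mk q) := IsLocalization.lift_comp _
  have hker : ∀ b, β b = 0 → ∃ a ∈ q, algebraMap A B a = b := fun b hb =>
    hmax b ((IsLocalRing.mem_maximalIdeal _).2 fun hu => by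
      have := hu.map β
      rw [hb] at this
      exact not_isUnit_zero this)
  let i₁ : Spec (CommRingCat.of K) ⟶ Q.total := Spec.map (CommRingCat.ofHom β) ≫ D.toScheme.isoSpec.inv ≫ j
  let i₂ : Spec (CommRingCat.of (A ⧸ q)) ⟶ X.total :=
    Spec.map (CommRingCat.ofHom (Ideal.Quotient.mk q)) ≫ P.total.isoSpec.inv ≫ g₀.hom
  have hiso : D.toScheme.isoSpec.inv ≫ D.ι = Spec.map (CommRingCat.ofHom (algebraMap A B)) ≫ P.total.isoSpec.inv :=
    (Scheme.isoSpec_inv_naturality D.ι).symm
  have hsq : i₁ ≫ qq.hom = Spec.map (CommRingCat.ofHom γ) ≫ i₂ := by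
    simp only [i₁, i₂, Category.assoc, hj, reassoc_of% hiso, ← Spec.map_comp_assoc]
    rw [← CommRingCat.ofHom_comp, ← CommRingCat.ofHom_comp, hcomm]
  have hex : ValuativeCriterion.Existence qq.hom := by
    have : UniversallyClosed qq.hom := inferInstance
    rw [UniversallyClosed.eq_valuativeCriterion] at this
    exact this.1
  obtain ⟨l, hl₁, hl₂⟩ := (hex { R := A ⧸ q, K := K, i₁ := i₁, i₂ := i₂, commSq := ⟨hsq⟩ }).exists_lift
  dsimp only at hl₁ hl₂
  -- affine neighbourhoods
  let y := l (IsLocalRing.closedPoint (A ⧸ q))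
  have hy : qq.hom y = g₀.hom (closedPt P.total) := by
    rw [← Scheme.Hom.comp_apply, hl₂]
    simp only [i₂, Scheme.Hom.comp_apply]
    congr 2
    haveI : IsLocalHom (Ideal.Quotient.mk q) := IsLocalHom.of_surjective _ Ideal.Quotient.mk_surjective
    exact IsLocalRing.comap_closedPoint (Ideal.Quotient.mk q)
  obtain ⟨W', hW', hxW', -⟩ := exists_isAffineOpen_mem_and_subset (X := X.total) (x := g₀.hom (closedPt P.total))
    (U := (⊤ : X.total.Opens)) trivial
  obtain ⟨W, hW, hyW, hWle⟩ := exists_isAffineOpen_mem_and_subset (X := Q.total) (x := y) (U := qq.hom ⁻¹ᵁ W')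
    (by show qq.hom y ∈ W'; rw [hy]; exact hxW')
  haveI : IsAffine W.toScheme := hW
  haveI : IsAffine W'.toScheme := hW'
  have hlr : Set.range l ⊆ Set.range W.ι := by
    rw [Scheme.Opens.range_ι]
    rintro _ ⟨x, rfl⟩
    exact ((IsLocalRing.specializes_closedPoint x).map l.continuous).mem_open W.2 hyW
  have hjr : Set.range j ⊆ Set.range W.ι := by
    rw [Scheme.Opens.range_ι]
    rintro _ ⟨x, rfl⟩
    refine ((specializes_closedPt D.toScheme x).map j.continuous).mem_open W.2 ?_
    let η : Spec (CommRingCat.of K) := IsLocalRing.closedPoint K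
    have h1 : Spec.map (CommRingCat.ofHom β) η = IsLocalRing.closedPoint B := by
      have hloc : IsLocalHom β := ⟨fun b hb => by
        by_contra hnu
        obtain ⟨a, ha, rfl⟩ := hmax b ((IsLocalRing.mem_maximalIdeal _).2 hnu)
        rw [← RingHom.comp_apply β, hcomm, RingHom.comp_apply, Ideal.Quotient.eq_zero_iff_mem.2 ha, map_zero] at hb
        exact not_isUnit_zero hb⟩
      exact IsLocalRing.comap_closedPoint β
    have h2 : i₁ η = j (closedPt D.toScheme) := by
      simp only [i₁, Scheme.Hom.comp_apply, h1]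
      rfl
    rw [← h2, ← hl₁, Scheme.Hom.comp_apply, SetLike.mem_coe]
    exact ((IsLocalRing.specializes_closedPoint _).map l.continuous).mem_open W.2 hyW
  let R := Γ(W.toScheme, ⊤)
  let lj := IsOpenImmersion.lift W.ι j hjr
  let ll := IsOpenImmersion.lift W.ι l hlr
  obtain ⟨φ₁, hφ₁⟩ := Spec.map_surjective (D.toScheme.isoSpec.inv ≫ lj ≫ W.toScheme.isoSpec.hom)
  obtain ⟨φ₂, hφ₂⟩ := Spec.map_surjective (ll ≫ W.toScheme.isoSpec.hom)
  have hcompat : β.comp φ₁.hom = γ.comp φ₂.hom := by
    have h1 : φ₁ ≫ CommRingCat.ofHom β = φ₂ ≫ CommRingCat.ofHom γ := by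
      apply Spec.map_injective
      rw [Spec.map_comp, Spec.map_comp, hφ₁, hφ₂, ← cancel_mono W.toScheme.isoSpec.inv, ← cancel_mono W.ι]
      simp only [Category.assoc, Iso.hom_inv_id_assoc, lj, ll, IsOpenImmersion.lift_fac]
      exact hl₁.symm
    exact congrArg CommRingCat.Hom.hom h1
  obtain ⟨ψ, hψ⟩ := exists_factor_ring (algebraMap A B) hinj q β γ hcomm hker φ₁.hom φ₂.hom hcompat
  let hW₀ : P.total ⟶ W.toScheme :=
    P.total.isoSpec.hom ≫ Spec.map (CommRingCat.ofHom ψ) ≫ W.toScheme.isoSpec.inv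
  let h₀ : P.total ⟶ Q.total := hW₀ ≫ W.ι
  have hD₀ : D.ι ≫ h₀ = j := by
    have h1 : CommRingCat.ofHom ψ ≫ CommRingCat.ofHom (algebraMap A B) = φ₁ :=
      CommRingCat.hom_ext hψ
    have h2 : D.ι ≫ P.total.isoSpec.hom = D.toScheme.isoSpec.hom ≫ Spec.map (CommRingCat.ofHom (algebraMap A B)) :=
      (Scheme.isoSpec_hom_naturality D.ι).symm
    simp only [h₀, hW₀, Category.assoc, reassoc_of% h2, ← Spec.map_comp_assoc, h1, hφ₁, lj,
      Iso.hom_inv_id_assoc, IsOpenImmersion.lift_fac]
  have hr1 : Set.range (h₀ ≫ qq.hom) ⊆ Set.range W'.ι := by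
    rw [Scheme.Opens.range_ι]
    rintro _ ⟨x, rfl⟩
    rw [Scheme.Hom.comp_apply]
    refine hWle ?_
    show (hW₀ ≫ W.ι) x ∈ W
    rw [Scheme.Hom.comp_apply]
    exact (hW₀ x).2
  have hr2 : Set.range g₀.hom ⊆ Set.range W'.ι := by
    rw [Scheme.Opens.range_ι]
    rintro _ ⟨x, rfl⟩
    exact ((specializes_closedPt P.total x).map g₀.hom.continuous).mem_open W'.2 hxW'
  have hfac : h₀ ≫ qq.hom = g₀.hom := by
    have he : D.ι ≫ IsOpenImmersion.lift W'.ι (h₀ ≫ qq.hom) hr1 = D.ι ≫ IsOpenImmersion.lift W'.ι g₀.hom hr2 := by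
      refine (cancel_mono W'.ι).1 ?_
      refine (Category.assoc _ _ _).trans (Eq.trans ?_ (Category.assoc _ _ _).symm)
      refine (congrArg (D.ι ≫ ·) (IsOpenImmersion.lift_fac _ _ _)).trans
        (Eq.trans ?_ (congrArg (D.ι ≫ ·) (IsOpenImmersion.lift_fac _ _ _)).symm)
      exact (Category.assoc _ _ _).symm.trans ((congrArg (· ≫ qq.hom) hD₀).trans hj)
    have hu : IsOpenImmersion.lift W'.ι (h₀ ≫ qq.hom) hr1 = IsOpenImmersion.lift W'.ι g₀.hom hr2 := by
      refine AlgebraicGeometry.ext_of_isAffine ?_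
      have := congrArg (fun f => f.appTop) he
      simp only [Scheme.Hom.comp_appTop] at this
      refine CommRingCat.hom_ext (RingHom.ext fun r => hinj ?_)
      exact ConcreteCategory.congr_hom this r
    rw [← IsOpenImmersion.lift_fac W'.ι (h₀ ≫ qq.hom) hr1, hu, IsOpenImmersion.lift_fac]
  refine ⟨⟨h₀, ?_⟩, Pair.Hom.ext hfac⟩
  show P.mod ≤ Q.mod.comap h₀
  rw [hqmin, ← Scheme.IdealSheafData.comap_comp, hfac]
  exact g₀.cond

end Groth.Agent.ModPairLocal
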