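import Groth.Agent.ModPairLocal.Forward
import Groth.Agent.ModPairLocal.Converse
import Mathlib

/-!
# Locality of modulus pairs for coverings by flat morphisms and of their total spaces
-/

set_option autoImplicit false
set_option backward.isDefEq.respectTransparency false
set_option backward.isDefEq.respectTransparency.types false
set_option linter.style.haveILetI false

universe u

open CategoryTheory Limits AlgebraicGeometry ModPair

namespace Groth.Agent.ModPairLocal

/-- Locality of a scheme for coverings by morphisms with property `MP`. -/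
def SchLocal (MP : MorphismProperty Scheme.{u}) (T : Scheme.{u}) : Prop :=
  ∀ (X : Scheme.{u}) (R : Presieve X), R ∈ Scheme.precoverage MP X →
    ∀ g : T ⟶ X, ∃ (Y : Scheme.{u}) (w : Y ⟶ X) (h : T ⟶ Y), R w ∧ h ≫ w = g

/-- Locality of a modulus pair for coverings by minimal morphisms with property `MP`. -/
def PairLocal (MP : MorphismProperty Scheme.{u}) (P : Pair.{u}) : Prop :=
  ∀ (X : Pair.{u}) (ι : Type u) (U : ι → Pair.{u}) (v : ∀ i, U i ⟶ X),
    (∀ i, IsMinimal (U i).mod X.mod (v i).hom ∧ MP (v i).hom) →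
    (∀ x : X.total, ∃ (i : ι) (y : (U i).total), (v i).hom.base y = x) →
    ∀ g : P ⟶ X, ∃ (i : ι) (h : P ⟶ U i), h ≫ v i = g

variable {MP : MorphismProperty Scheme.{u}}

theorem pairLocal_of_schLocal {P : Pair.{u}} (h : SchLocal MP P.total) : PairLocal MP P := by
  intro X ι U v hv hcov g
  obtain ⟨Y, w, k, ⟨i⟩, hk⟩ := h X.total (.ofArrows (fun i => (U i).total) fun i => (v i).hom)
    ((Scheme.ofArrows_mem_precoverage_iff _).2
      ⟨fun x => by obtain ⟨i, y, hy⟩ := hcov x; exact ⟨i, y, hy⟩, fun i => (hv i).2⟩) g.hom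
  refine ⟨i, ⟨k, ?_⟩, Pair.Hom.ext hk⟩
  show P.mod ≤ (U i).mod.comap k
  rw [(hv i).1, ← Scheme.IdealSheafData.comap_comp, hk]
  exact g.cond

theorem schLocal_of_pairLocal [MP.IsStableUnderBaseChange] (hflat : ∀ {Y Z : Scheme.{u}} (f : Y ⟶ Z), MP f → Flat f)
    {P : Pair.{u}} (h : PairLocal MP P) : SchLocal MP P.total := by
  intro X R hR g
  have hc : ∀ x : P.total, ∃ (Y : Scheme.{u}) (w : Y ⟶ X), R w ∧ g x ∈ Set.range w ∧ MP w := fun x => by
    have h1 := hR.1
    rw [Scheme.jointlySurjectivePrecoverage, Presieve.mem_comap_jointlySurjectivePrecoverage_iff] at h1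
    obtain ⟨Y, w, hw, y, hy⟩ := h1 (g x)
    exact ⟨Y, w, hw, ⟨y, hy⟩, hR.2 hw⟩
  choose Y w hRw hmem hP using hc
  have hpr : ∀ x, MP (pullback.fst g (w x)) := fun x => MorphismProperty.pullback_fst _ _ (hP x)
  haveI : ∀ x, Flat (pullback.fst g (w x)) := fun x => hflat _ (hpr x)
  obtain ⟨i, k, hk⟩ := h P P.total
    (fun x => ⟨pullback g (w x), P.mod.comap (pullback.fst g (w x)),
      BlowUpLib.cartier_comap_flat P.isEffCartier _⟩)
    (fun x => ⟨pullback.fst g (w x), le_refl _⟩) (fun x => ⟨rfl, hpr x⟩)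
    (fun x => by
      obtain ⟨y, hy⟩ := hmem x
      obtain ⟨z, hz, -⟩ := Scheme.Pullback.exists_preimage_pullback (f := g) (g := w x) x y hy.symm
      exact ⟨x, z, hz⟩) (𝟙 P)
  refine ⟨Y i, w i, k.hom ≫ pullback.snd g (w i), hRw i, ?_⟩
  rw [Category.assoc, ← pullback.condition, ← Category.assoc]
  exact (congrArg (· ≫ g) (congrArg Pair.Hom.hom hk)).trans (Category.id_comp g)

theorem zarLocal_of_pairLocal (hop : ∀ {Y Z : Scheme.{u}} (f : Y ⟶ Z), IsOpenImmersion f → QuasiCompact f → MP f)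
    {P : Pair.{u}} (h : PairLocal MP P) : ZarLocal P :=
  fun X ι U v hv => h X ι U v fun i => ⟨(hv i).1, hop _ (hv i).2.1 (hv i).2.2⟩

/-- Retractions of the algebras covering a local scheme. -/
theorem exists_retraction {T : Scheme.{u}} [IsAffine T] (h : SchLocal MP T) {R : CommRingCat.{u}}
    (φ : Γ(T, ⊤) ⟶ R) (hφ : MP (Spec.map φ ≫ T.isoSpec.inv))
    (hsurj : Function.Surjective (PrimeSpectrum.comap φ.hom)) : ∃ σ : R ⟶ Γ(T, ⊤), φ ≫ σ = 𝟙 _ := by
  obtain ⟨Y, w, k, ⟨⟩, hk⟩ := h T (Presieve.singleton (Spec.map φ ≫ T.isoSpec.inv))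
    ((Scheme.singleton_mem_precoverage_iff MP _).2 ⟨fun x => by
      obtain ⟨y, hy⟩ := hsurj (T.isoSpec.hom x)
      refine ⟨y, ?_⟩
      show (Spec.map φ ≫ T.isoSpec.inv) y = x
      rw [Scheme.Hom.comp_apply, show Spec.map φ y = T.isoSpec.hom x from hy, ← Scheme.Hom.comp_apply, Iso.hom_inv_id]
      rfl, hφ⟩) (𝟙 T)
  obtain ⟨σ, hσ⟩ := Spec.map_surjective (T.isoSpec.inv ≫ k)
  refine ⟨σ, Spec.map_injective ?_⟩
  rw [Spec.map_comp, hσ, Spec.map_id, ← cancel_mono T.isoSpec.inv, Category.assoc, Category.assoc, hk,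
    Category.comp_id, Category.id_comp]

end Groth.Agent.ModPairLocal
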