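import Groth.Agent.ModPairLocal.Lattice
import Groth.Agent.ModPairLocal.Cover
import Groth.Agent.EtHens.Basic
import Groth.Agent.EtRetr.Basic
import Groth.Agent.Hensel.Local
import Groth.Agent.Hensel.Etale
import Groth.Agent.Hensel.Ops
import Groth.Agent.Hensel.Henselization
import Groth.Agent.S5062
import Mathlib

/-!
# Modulus pairs local for etale coverings and admissible blow-ups
-/

set_option autoImplicit false
set_option backward.isDefEq.respectTransparency false
set_option backward.isDefEq.respectTransparency.types false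
set_option linter.style.haveILetI false

universe u

open CategoryTheory Limits AlgebraicGeometry ModPair

namespace Groth.Agent.ModPairLocal

/-- Etale, quasi-compact, quasi-separated. -/
abbrev etProp : MorphismProperty Scheme.{u} := @Etale ⊓ @QuasiCompact ⊓ @QuasiSeparated

instance : (etProp.{u}).IsStableUnderBaseChange := by
  constructor
  rintro X Y S T f g f' g' sq ⟨⟨h₁, h₂⟩, h₃⟩
  exact ⟨⟨MorphismProperty.of_isPullback sq h₁, MorphismProperty.of_isPullback sq h₂⟩,
    MorphismProperty.of_isPullback sq h₃⟩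

theorem et_of_openImmersion {Y Z : Scheme.{u}} (f : Y ⟶ Z) (h₁ : IsOpenImmersion f) (h₂ : QuasiCompact f) :
    etProp f :=
  ⟨⟨inferInstance, h₂⟩, inferInstance⟩

theorem hasEtaleRetractions {T : Scheme.{u}} [IsAffine T] (h : SchLocal etProp T) :
    ProEtW.HasEtaleRetractions Γ(T, ⊤) := by
  intro C _ _ hff het
  let φ : Γ(T, ⊤) ⟶ CommRingCat.of C := CommRingCat.ofHom (algebraMap Γ(T, ⊤) C)
  haveI : Etale (Spec.map φ) := by
    rw [HasRingHomProperty.Spec_iff (P := @AlgebraicGeometry.Etale), CommRingCat.hom_ofHom,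
      RingHom.etale_algebraMap]
    exact het
  obtain ⟨σ, hσ⟩ := exists_retraction h φ ⟨⟨inferInstance, inferInstance⟩, inferInstance⟩
    PrimeSpectrum.comap_surjective_of_faithfullyFlat
  exact ⟨{ σ.hom with commutes' := fun a => ConcreteCategory.congr_hom hσ a }⟩

theorem strictlyHenselian_of_retractions {A : Type u} [CommRing A] [IsLocalRing A]
    (h : ProEtW.HasEtaleRetractions A) : EtCoh.IsStrictlyHenselianLocalRing A := by
  let e : A ≃+* Localization.AtPrime (IsLocalRing.maximalIdeal A) :=
    (IsLocalization.atUnits A (IsLocalRing.maximalIdeal A).primeCompl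
      (S := Localization.AtPrime (IsLocalRing.maximalIdeal A)) fun s hs => by
        rw [IsUnit.mem_submonoid_iff]
        by_contra hu
        exact hs ((IsLocalRing.mem_maximalIdeal _).2 hu)).toRingEquiv
  haveI := EtRetr.henselianLocalRing h (IsLocalRing.maximalIdeal A)
  haveI := EtRetr.isSepClosed_residueField h (IsLocalRing.maximalIdeal A)
  have hA : HenselianLocalRing A := by
    refine { is_henselian := fun f hf a₀ h1 h2 => ?_ }
    obtain ⟨r, hr, hr'⟩ := HenselianLocalRing.is_henselian (f.map (e : A →+* _)) (hf.map _) (e a₀)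
      (by rw [Polynomial.eval_map, ← RingEquiv.coe_toRingHom, Polynomial.eval₂_at_apply, IsLocalRing.mem_maximalIdeal,
            mem_nonunits_iff]
          exact fun hu => (IsLocalRing.mem_maximalIdeal _).1 h1 (by simpa using hu.map e.symm))
      (by rw [Polynomial.derivative_map, Polynomial.eval_map, ← RingEquiv.coe_toRingHom, Polynomial.eval₂_at_apply]
          exact h2.map _)
    refine ⟨e.symm r, e.injective ?_, ?_⟩
    · have := hr.eq_zero
      rw [← e.apply_symm_apply r, Polynomial.eval_map, ← RingEquiv.coe_toRingHom, Polynomial.eval₂_at_apply] at this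
      rw [map_zero]
      exact this
    · rw [IsLocalRing.mem_maximalIdeal] at hr' ⊢
      intro hu
      exact hr' (by simpa using hu.map e)
  exact ⟨hA, Hensel.isSepClosed_of_ringEquiv (IsLocalRing.ResidueField.mapEquiv e).symm⟩

theorem strictlyHenselian_quotient {A : Type u} [CommRing A] (hA : EtCoh.IsStrictlyHenselianLocalRing A)
    (q : Ideal A) (hq : q ≠ ⊤) : EtCoh.IsStrictlyHenselianLocalRing (A ⧸ q) := by
  obtain ⟨hh, hs⟩ := hA
  haveI := hh
  haveI := hs
  haveI : Nontrivial (A ⧸ q) := Ideal.Quotient.nontrivial_iff.2 hq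
  haveI : IsLocalRing (A ⧸ q) := IsLocalRing.of_surjective' (Ideal.Quotient.mk q) Ideal.Quotient.mk_surjective
  haveI : IsLocalHom (Ideal.Quotient.mk q) := IsLocalHom.of_surjective _ Ideal.Quotient.mk_surjective
  let f := IsLocalRing.ResidueField.map (Ideal.Quotient.mk q)
  have hsurj : Function.Surjective f := fun x => by
    obtain ⟨y, rfl⟩ := IsLocalRing.residue_surjective x
    obtain ⟨a, rfl⟩ := Ideal.Quotient.mk_surjective y
    exact ⟨IsLocalRing.residue A a, rfl⟩
  exact ⟨Hensel.henselianLocalRing_finite A (A ⧸ q),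
    Hensel.isSepClosed_of_ringEquiv (RingEquiv.ofBijective f ⟨f.injective, hsurj⟩)⟩

/-- The interior of a semi-valuation ring over a henselian ring is henselian. -/
theorem henselian_interior {A : Type u} {B : Type u} [CommRing A] [HenselianLocalRing A] [CommRing B] [IsLocalRing B]
    [Algebra A B] (hmax : ∀ b ∈ IsLocalRing.maximalIdeal B,
      ∃ a ∈ (IsLocalRing.maximalIdeal B).comap (algebraMap A B), algebraMap A B a = b) : HenselianLocalRing B := by
  let q := (IsLocalRing.maximalIdeal B).comap (algebraMap A B)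
  haveI : q.IsPrime := Ideal.IsPrime.comap _
  haveI : HenselianRing A (IsLocalRing.maximalIdeal A) := (Hensel.henselianLocalRing_iff A).1 inferInstance
  haveI : HenselianRing A q := Hensel.henselianRing_mono (IsLocalRing.le_maximalIdeal (Ideal.IsPrime.ne_top ‹_›))
  obtain ⟨-, hroot⟩ := Hensel.henselianRing_iff_gRoot.1 ‹HenselianRing A q›
  rw [Hensel.henselianLocalRing_iff, Hensel.henselianRing_iff_gRoot]
  refine ⟨by rw [IsLocalRing.jacobson_eq_maximalIdeal ⊥ bot_ne_top], fun P n hP hmap => ?_⟩
  have hsub : ∀ i, ∃ a ∈ q, algebraMap A B a = (P - Polynomial.X ^ n * (Polynomial.X - 1)).coeff i := fun i => hmax _ (by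
    rw [← Ideal.Quotient.eq_zero_iff_mem, ← Polynomial.coeff_map, Polynomial.map_sub, hmap]
    simp)
  choose a ha hae using hsub
  have e0 : ∀ (S : Type u) [CommRing S], (Polynomial.X ^ n * (Polynomial.X - 1) : Polynomial S) =
      Polynomial.X ^ (n + 1) - Polynomial.X ^ n := fun S _ => by ring
  have hnt : Nontrivial (B ⧸ IsLocalRing.maximalIdeal B) :=
    Ideal.Quotient.nontrivial_iff.2 (IsLocalRing.maximalIdeal.isMaximal B).ne_top
  have hPd : P.natDegree = n + 1 := by
    have := hP.natDegree_map (Ideal.Quotient.mk (IsLocalRing.maximalIdeal B))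
    rw [hmap, ← Polynomial.C_1, (Polynomial.monic_X_pow n).natDegree_mul
      (Polynomial.monic_X_sub_C (1 : B ⧸ IsLocalRing.maximalIdeal B)), Polynomial.natDegree_X_pow,
      Polynomial.natDegree_X_sub_C] at this
    exact this.symm
  have hDd : ∀ i, n + 1 ≤ i → (P - Polynomial.X ^ n * (Polynomial.X - 1)).coeff i = 0 := by
    intro i hi
    have hin : i ≠ n := by omega
    rw [e0 B, Polynomial.coeff_sub, Polynomial.coeff_sub, Polynomial.coeff_X_pow, Polynomial.coeff_X_pow, if_neg hin,
      sub_zero]
    rcases eq_or_lt_of_le hi with rfl | hi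
    · rw [if_pos rfl, ← hPd, hP.coeff_natDegree, sub_self]
    · rw [if_neg hi.ne', Polynomial.coeff_eq_zero_of_natDegree_lt (hPd ▸ hi), sub_zero]
  have hdd : (P - Polynomial.X ^ n * (Polynomial.X - 1)).natDegree < n + 1 :=
    Nat.lt_succ_of_le (Polynomial.natDegree_le_iff_coeff_eq_zero.2 fun i hi => hDd i hi)
  let D : Polynomial A := ∑ i ∈ Finset.range (n + 1), Polynomial.monomial i (a i)
  have hD : D.map (algebraMap A B) = P - Polynomial.X ^ n * (Polynomial.X - 1) := by
    conv_rhs => rw [Polynomial.as_sum_range' _ (n + 1) hdd]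
    simp only [D, Polynomial.map_sum, Polynomial.map_monomial, hae]
  let P' : Polynomial A := Polynomial.X ^ n * (Polynomial.X - 1) + D
  have hP' : P'.map (algebraMap A B) = P := by simp [P', hD]
  have hP'm : P'.Monic := by
    have e : P' = Polynomial.X ^ (n + 1) + (D - Polynomial.X ^ n) := by simp only [P', e0 A]; ring
    rw [e]
    refine Polynomial.monic_X_pow_add ((Polynomial.degree_sub_le _ _).trans_lt (max_lt ?_ ?_))
    · refine (Polynomial.degree_sum_le _ _).trans_lt ((Finset.sup_lt_iff (WithBot.bot_lt_coe _)).2 fun i hi => ?_)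
      exact (Polynomial.degree_monomial_le _ _).trans_lt (WithBot.coe_lt_coe.2 (Finset.mem_range.1 hi))
    · exact (Polynomial.degree_X_pow_le n).trans_lt (WithBot.coe_lt_coe.2 (Nat.lt_succ_self n))
  have hP'map : P'.map (Ideal.Quotient.mk q) = Polynomial.X ^ n * (Polynomial.X - 1) := by
    have : D.map (Ideal.Quotient.mk q) = 0 := by
      simp only [D, Polynomial.map_sum, Polynomial.map_monomial]
      exact Finset.sum_eq_zero fun i _ => by rw [Ideal.Quotient.eq_zero_iff_mem.2 (ha i), Polynomial.monomial_zero_right]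
    simp [P', this]
  obtain ⟨α, hα, hα1⟩ := hroot P' n hP'm hP'map
  refine ⟨algebraMap A B α, ?_, ?_⟩
  · rw [← hP', Polynomial.IsRoot, Polynomial.eval_map, Polynomial.eval₂_at_apply, hα.eq_zero, map_zero]
  · rw [← map_one (algebraMap A B), ← map_sub]
    exact hα1

end Groth.Agent.ModPairLocal

namespace Groth.Agent.ModPairLocal

theorem schLocal_of_strictlyHenselian {T : Scheme.{u}} [IsAffine T]
    (hA : EtCoh.IsStrictlyHenselianLocalRing Γ(T, ⊤)) : SchLocal etProp T := by
  obtain ⟨hh, hs⟩ := hA
  haveI := hh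
  haveI := hs
  intro X R hR g₀
  let g := T.isoSpec.inv ≫ g₀
  have h1 := hR.1
  rw [Scheme.jointlySurjectivePrecoverage, Presieve.mem_comap_jointlySurjectivePrecoverage_iff] at h1
  obtain ⟨Y, w, hw, y, hy⟩ := h1 (g (IsLocalRing.closedPoint Γ(T, ⊤)))
  obtain ⟨z, -, hz⟩ := Scheme.Pullback.exists_preimage_pullback (f := w) (g := g) y _ hy
  obtain ⟨s, hs', -⟩ := (S5062.result Γ(T, ⊤)).1 ⟨hh, hs⟩ (pullback w g) (pullback.snd w g)
    (MorphismProperty.pullback_snd (P := @Etale) _ _ (hR.2 hw).1.1) z hz
  refine ⟨Y, w, T.isoSpec.hom ≫ s ≫ pullback.fst w g, hw, ?_⟩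
  rw [Category.assoc, Category.assoc, pullback.condition]
  refine (congrArg (T.isoSpec.hom ≫ ·) ((Category.assoc _ _ _).symm.trans ((congrArg (· ≫ g) hs').trans (Category.id_comp g)))).trans ?_
  exact Iso.hom_inv_id_assoc _ _

end Groth.Agent.ModPairLocal
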