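import Groth.Agent.ModPairLocal.Core
import Groth.Agent.ModPairLim.Refine
import Groth.Agent.BlowUpExist.Proper
import Groth.Agent.BlowUpExist.Global
import Mathlib

/-!
# Modulus pairs local for Zariski coverings and admissible blow-ups
-/

set_option autoImplicit false
set_option backward.isDefEq.respectTransparency false
set_option backward.isDefEq.respectTransparency.types false
set_option linter.style.haveILetI false

universe u

open CategoryTheory Limits AlgebraicGeometry ModPair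

namespace Groth.Agent.ModPairLocal

/-- The open subpair on an open subscheme. -/
noncomputable abbrev openPair (P : Pair.{u}) (V : P.total.Opens) : Pair.{u} :=
  ⟨V.toScheme, P.mod.comap V.ι, BlowUpLib.cartier_comap_flat P.isEffCartier V.ι⟩

/-- Zariski locality. -/
def ZarLocal (P : Pair.{u}) : Prop :=
  ∀ (X : Pair.{u}) (ι : Type u) (U : ι → Pair.{u}) (v : ∀ i, U i ⟶ X),
    (∀ i, IsMinimal (U i).mod X.mod (v i).hom ∧ IsOpenImmersion (v i).hom ∧ QuasiCompact (v i).hom) →
    (∀ x : X.total, ∃ (i : ι) (y : (U i).total), (v i).hom.base y = x) →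
    ∀ g : P ⟶ X, ∃ (i : ι) (h : P ⟶ U i), h ≫ v i = g

/-- Locality for abstract admissible blow-ups. -/
def BlowLocal (P : Pair.{u}) : Prop :=
  ∀ (Q X : Pair.{u}) (q : Q ⟶ X), Pair.admBlowup q → ∀ g : P ⟶ X, ∃ h : P ⟶ Q, h ≫ q = g

/-- The closed point of a local affine scheme. -/
noncomputable abbrev closedPt (X : Scheme.{u}) [IsAffine X] [IsLocalRing Γ(X, ⊤)] : X :=
  X.isoSpec.inv (IsLocalRing.closedPoint Γ(X, ⊤))

theorem specializes_closedPt (X : Scheme.{u}) [IsAffine X] [IsLocalRing Γ(X, ⊤)] (x : X) :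
    x ⤳ closedPt X := by
  have h : X.isoSpec.hom x ⤳ IsLocalRing.closedPoint Γ(X, ⊤) := IsLocalRing.specializes_closedPoint _
  have h2 := h.map X.isoSpec.inv.continuous
  rwa [← Scheme.Hom.comp_apply, Iso.hom_inv_id] at h2

theorem eq_top_of_mem {X : Scheme.{u}} [IsAffine X] [IsLocalRing Γ(X, ⊤)] (U : X.Opens)
    (h : closedPt X ∈ U) : U = ⊤ :=
  top_le_iff.1 fun x _ => (specializes_closedPt X x).mem_open U.2 h

theorem eq_closedPt {X : Scheme.{u}} [IsAffine X] [IsLocalRing Γ(X, ⊤)] (x : X)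
    (hx : IsClosed ({x} : Set X)) : x = closedPt X :=
  ((specializes_closedPt X x).mem_closed hx (Set.mem_singleton x)).symm

theorem zariski_consequences (P : Pair.{u}) [QuasiSeparatedSpace P.total] (hz : ZarLocal P) :
    IsAffine P.total ∧ IsLocalRing Γ(P.total, ⊤) := by
  have hne : Nonempty P.total := by
    by_contra h
    rw [not_nonempty_iff] at h
    obtain ⟨i, -⟩ := hz P PEmpty.{u+1} PEmpty.elim (fun i => i.elim) (fun i => i.elim)
      (fun x => h.elim x) (𝟙 P)
    exact i.elim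
  have fam : ∀ {ι : Type u} (U : ι → P.total.Opens), (∀ i, IsAffineOpen (U i)) → (∀ x, ∃ i, x ∈ U i) →
      ∃ i, U i = ⊤ := by
    intro ι U hU hcov
    obtain ⟨i, h, hh⟩ := hz P ι (fun i => openPair P (U i)) (fun i => ⟨(U i).ι, le_refl _⟩)
      (fun i => ⟨rfl, inferInstance, by
        haveI : CompactSpace (U i).toScheme := isCompact_iff_compactSpace.1 (hU i).isCompact
        exact AlgebraicGeometry.quasiCompact_of_compactSpace _⟩)
      (fun x => by obtain ⟨i, hi⟩ := hcov x; exact ⟨i, ⟨x, hi⟩, rfl⟩) (𝟙 P)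
    refine ⟨i, top_le_iff.1 fun x _ => ?_⟩
    have hx : (h.hom ≫ (U i).ι) x = x := congrArg (fun f : P ⟶ P => f.hom x) hh
    rw [← hx, Scheme.Hom.comp_apply]
    exact (h.hom x).2
  haveI haff : IsAffine P.total := by
    obtain ⟨V, hV⟩ := fam (fun V : P.total.affineOpens => V.1) (fun V => V.2) (fun x => by
      obtain ⟨_, ⟨V, hV, rfl⟩, hxV, -⟩ := P.total.isBasis_affineOpens.exists_subset_of_mem_open
        (Set.mem_univ x) isOpen_univ
      exact ⟨⟨V, hV⟩, hxV⟩)
    haveI : IsAffine (⊤ : P.total.Opens).toScheme := hV ▸ V.2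
    exact IsAffine.of_isIso P.total.topIso.inv
  refine ⟨haff, ?_⟩
  haveI : Nontrivial Γ(P.total, ⊤) := by
    obtain ⟨x⟩ := hne
    exact PrimeSpectrum.nonempty_iff_nontrivial.1 ⟨P.total.isoSpec.hom x⟩
  refine IsLocalRing.of_isUnit_or_isUnit_one_sub_self fun a => ?_
  obtain ⟨⟨b⟩, hb⟩ := fam (fun b : ULift.{u} Bool => P.total.basicOpen (if b.down then a else 1 - a))
    (fun b => (isAffineOpen_top P.total).basicOpen _) (fun x => by
      by_contra hc
      rw [not_exists] at hc
      have h1 := hc ⟨true⟩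
      have h2 := hc ⟨false⟩
      rw [P.total.mem_basicOpen_top] at h1 h2
      simp only [if_true, Bool.false_eq_true, if_false] at h1 h2
      rw [map_sub, map_one] at h2
      rcases IsLocalRing.isUnit_or_isUnit_one_sub_self
        (P.total.presheaf.Γgerm x a) with h | h
      · exact h1 h
      · exact h2 h)
  have hu := (P.total.toRingedSpace.isUnit_of_isUnit_germ ⊤ (if b then a else 1 - a) fun x hx =>
    (P.total.mem_basicOpen_top _ x).1 (by
      have hx' : x ∈ P.total.basicOpen (if b then a else 1 - a) := (SetLike.ext_iff.1 hb x).2 hx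
      exact hx'))
  cases b
  · exact .inr hu
  · exact .inl hu

/-- On a local affine pair the modulus is generated by a nonzerodivisor. -/
theorem exists_generator (P : Pair.{u}) [IsAffine P.total] [IsLocalRing Γ(P.total, ⊤)] :
    ∃ g : Γ(P.total, ⊤), g ∈ nonZeroDivisors Γ(P.total, ⊤) ∧
      P.mod.ideal ⟨⊤, isAffineOpen_top _⟩ = Ideal.span {g} ∧
      ModPair.interior P.mod = P.total.basicOpen g := by
  obtain ⟨U, hU, f, hf, he⟩ := P.isEffCartier (closedPt P.total)
  obtain rfl : U = ⟨⊤, isAffineOpen_top _⟩ := Subtype.ext (eq_top_of_mem U.1 hU)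
  refine ⟨f, hf, he, ?_⟩
  have := AlmostBlow.awayFrom_inf_eq_basicOpen he
  rwa [inf_top_eq] at this

/-- An affine local modulus pair lifting along admissible blow-ups: one of two elements generating an ideal which
contains a power of the modulus divides the other. -/
theorem dvd_or_dvd (P : Pair.{u}) [IsAffine P.total] [IsLocalRing Γ(P.total, ⊤)] (hb : BlowLocal P)
    {g : Γ(P.total, ⊤)} (hg : g ∈ nonZeroDivisors Γ(P.total, ⊤))
    (hint : ModPair.interior P.mod = P.total.basicOpen g) (a b : Γ(P.total, ⊤)) (n : ℕ)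
    (h : g ^ n ∈ Ideal.span {a, b}) : a ∣ b ∨ b ∣ a := by
  obtain ⟨𝓙, h𝓙⟩ := (Scheme.IdealSheafData.equivOfIsAffine (X := P.total)).surjective (Ideal.span {a, b})
  replace h𝓙 : 𝓙.ideal ⟨⊤, isAffineOpen_top _⟩ = Ideal.span {a, b} := h𝓙
  obtain ⟨T, q, hq⟩ := BlowUpExist.exists_isBlowUp P.total 𝓙
  haveI : IsProper q := BlowUpExist.isProper_of_isBlowUp hq (fun x =>
    ⟨⟨⊤, isAffineOpen_top _⟩, trivial, h𝓙.symm ▸ Submodule.fg_span (Set.toFinite {a, b})⟩)
  have hsupp : ModPair.interior P.mod ≤ 𝓙.support.compl := by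
    intro x hx hxs
    rw [hint] at hx
    have h1 : x ∈ (𝓙.support : Set P.total) ∩ ((⊤ : P.total.Opens) : Set P.total) := ⟨hxs, trivial⟩
    have h2 := h1
    rw [show ((⊤ : P.total.Opens) : Set P.total) = ((⟨⊤, isAffineOpen_top _⟩ : P.total.affineOpens).1 : Set P.total) from rfl,
      𝓙.coe_support_inter ⟨⊤, isAffineOpen_top _⟩, h𝓙] at h2
    have h3 := h2.1
    rw [P.total.mem_zeroLocus_iff] at h3
    refine h3 (g ^ n) h ?_
    rw [P.total.mem_basicOpen_top, map_pow]
    exact ((P.total.mem_basicOpen_top g x).1 hx).pow n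
  haveI : IsIso (q ∣_ 𝓙.support.compl) := BlowUpLib.isIso_restrict hq
  haveI : IsIso (q ∣_ ModPair.interior P.mod) := by
    have e := isIso_restrict_of_le q hsupp
    exact e
  let Q : Pair.{u} := ⟨(HTop.supportedOn (P.mod.comap q)).subscheme,
    P.mod.comap ((HTop.supportedOn (P.mod.comap q)).subschemeι ≫ q), ModPairLim.cartier_supp P.isEffCartier q⟩
  obtain ⟨k, hk⟩ := hb Q P ⟨(HTop.supportedOn (P.mod.comap q)).subschemeι ≫ q, le_refl _⟩
    (ModPairLim.isAdmBlowup_supp q) (𝟙 P)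
  let m := k.hom ≫ (HTop.supportedOn (P.mod.comap q)).subschemeι
  have hm : m ≫ q = 𝟙 _ := (Category.assoc _ _ _).trans (congrArg Pair.Hom.hom hk)
  have hlp : HTop.IsLocPrincipal ((𝓙.comap q).comap m) := AlmostBlow.isLocPrincipal_comap
    (fun x => by obtain ⟨U, hU, f, -, he⟩ := hq.1 x; exact ⟨U, hU, f, he⟩) m
  rw [← Scheme.IdealSheafData.comap_comp, hm, Scheme.IdealSheafData.comap_id] at hlp
  obtain ⟨U, hU, c, hc⟩ := hlp (closedPt P.total)
  obtain rfl : U = ⟨⊤, isAffineOpen_top _⟩ := Subtype.ext (eq_top_of_mem U.1 hU)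
  exact dvd_of_isPrincipal hg h (h𝓙.symm.trans hc)
where
  isIso_restrict_of_le {X Y : Scheme.{u}} (f : X ⟶ Y) {U V : Y.Opens} (h : U ≤ V) [IsIso (f ∣_ V)] :
      IsIso (f ∣_ U) := by
    have e := morphismRestrictRestrict f V (V.ι ⁻¹ᵁ U)
    have hV : V.ι ''ᵁ V.ι ⁻¹ᵁ U = U := by
      rw [Scheme.Hom.image_preimage_eq_opensRange_inf, Scheme.Opens.opensRange_ι, inf_eq_right.2 h]
    have h1 : IsIso (f ∣_ V.ι ''ᵁ V.ι ⁻¹ᵁ U) := by
      exact (MorphismProperty.arrow_mk_iso_iff (MorphismProperty.isomorphisms Scheme.{u}) e).1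
        (inferInstanceAs (IsIso (f ∣_ V ∣_ V.ι ⁻¹ᵁ U)))
    exact hV ▸ h1

/-- Sections on the interior as an algebra over the global sections. -/
noncomputable abbrev interiorAlg (P : Pair.{u}) :
    Algebra Γ(P.total, ⊤) Γ((ModPair.interior P.mod : Scheme.{u}), ⊤) :=
  (ModPair.interior P.mod).ι.appTop.hom.toAlgebra

theorem isLocalization_basic {X : Scheme.{u}} [IsAffine X] (g : Γ(X, ⊤)) (D : X.Opens) (hD : D = X.basicOpen g) :
    letI := (D.ι.appTop).hom.toAlgebra
    IsLocalization.Away g Γ(D.toScheme, ⊤) := by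
  subst hD
  letI := ((X.basicOpen g).ι.appTop).hom.toAlgebra
  letI : Algebra Γ(X, ⊤) Γ(X, X.basicOpen g) := (X.presheaf.map (homOfLE le_top).op).hom.toAlgebra
  haveI : IsLocalization.Away g Γ(X, X.basicOpen g) := (isAffineOpen_top X).isLocalization_basicOpen g
  refine IsLocalization.isLocalization_of_algEquiv (Submonoid.powers g)
    (AlgEquiv.ofRingEquiv (f := (X.basicOpen g).topIso.symm.commRingCatIsoToRingEquiv) fun x => ?_)
  show ((X.presheaf.map (homOfLE le_top).op) ≫ (X.basicOpen g).topIso.inv) x = (X.basicOpen g).ι.appTop x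
  congr 1
  simp only [Scheme.Opens.topIso, Scheme.Opens.ι_appTop, Functor.mapIso_inv, ← Functor.map_comp]
  rfl

/-- The image of the closed point of the interior. -/
theorem toSpecΓ_closedPt (P : Pair.{u}) [IsAffine (ModPair.interior P.mod : Scheme.{u})]
    [IsLocalRing Γ((ModPair.interior P.mod : Scheme.{u}), ⊤)] :
    (P.total.toSpecΓ.base ((ModPair.interior P.mod).ι.base (closedPt (ModPair.interior P.mod : Scheme.{u})))).asIdeal =
      (IsLocalRing.maximalIdeal Γ((ModPair.interior P.mod : Scheme.{u}), ⊤)).comap (ModPair.interior P.mod).ι.appTop.hom := by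
  let D := ModPair.interior P.mod
  show ((D.ι ≫ P.total.toSpecΓ) (D.toScheme.isoSpec.inv (IsLocalRing.closedPoint _))).asIdeal = _
  rw [← Scheme.Hom.comp_apply, Scheme.toSpecΓ_naturality, ← Scheme.isoSpec_hom, Iso.inv_hom_id_assoc]
  rfl

end Groth.Agent.ModPairLocal
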