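import Mathlib

set_option autoImplicit false

/-!
# Semi-valuation rings inside a localisation at one element
-/

universe u v

namespace Groth.Agent.ModPairLocal

variable {A : Type u} [CommRing A] [IsLocalRing A] {g : A}

/-- Two generators of an ideal of a local ring containing a power of a nonzerodivisor: if it is principal, one of
them divides the other. -/
theorem dvd_of_isPrincipal (hg : g ∈ nonZeroDivisors A) {a b : A} {n : ℕ} (h : g ^ n ∈ Ideal.span {a, b})
    {c : A} (hc : Ideal.span {a, b} = Ideal.span {c}) : a ∣ b ∨ b ∣ a := by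
  obtain ⟨r, hr⟩ := Ideal.mem_span_singleton'.1 (hc ▸ Ideal.subset_span (Set.mem_insert a {b}) : a ∈ Ideal.span {c})
  obtain ⟨s, hs⟩ := Ideal.mem_span_singleton'.1
    (hc ▸ Ideal.subset_span (Set.mem_insert_of_mem a rfl) : b ∈ Ideal.span {c})
  obtain ⟨x, y, hxy⟩ := Ideal.mem_span_pair.1 (hc.symm ▸ Ideal.mem_span_singleton_self c : c ∈ Ideal.span {a, b})
  obtain ⟨w, hw⟩ := Ideal.mem_span_singleton'.1 (hc ▸ h : g ^ n ∈ Ideal.span {c})
  have hcz : c ∈ nonZeroDivisors A := by
    have := pow_mem hg n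
    rw [← hw] at this
    exact (mul_mem_nonZeroDivisors.1 this).2
  have h1 : x * r + y * s = 1 := by
    have h0 : c * (x * r + y * s - 1) = 0 := by linear_combination hxy + x * hr + y * hs
    exact sub_eq_zero.1 ((mem_nonZeroDivisors_iff.1 hcz).1 _ h0)
  rcases IsLocalRing.isUnit_or_isUnit_of_add_one h1 with hu | hu
  · left
    obtain ⟨r', hr'⟩ := isUnit_iff_exists_inv.1 (isUnit_of_mul_isUnit_right hu)
    exact ⟨r' * s, by rw [← hs, ← hr]; linear_combination (-(s * c)) * hr'⟩
  · right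
    obtain ⟨s', hs'⟩ := isUnit_iff_exists_inv.1 (isUnit_of_mul_isUnit_right hu)
    exact ⟨s' * r, by rw [← hs, ← hr]; linear_combination (-(r * c)) * hs'⟩

variable (hg : g ∈ nonZeroDivisors A) (H : ∀ a b : A, ∀ n : ℕ, g ^ n ∈ Ideal.span {a, b} → a ∣ b ∨ b ∣ a)
variable {B : Type v} [CommRing B] [Algebra A B] [IsLocalization.Away g B]

include H in
theorem dvd_pow_or (a : A) (n : ℕ) : a ∣ g ^ n ∨ g ^ n ∣ a :=
  H a (g ^ n) n (Ideal.subset_span (Set.mem_insert_of_mem a rfl))

include hg H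

theorem isLocalRing : IsLocalRing B := by
  haveI : Nontrivial B := (IsLocalization.injective B (Submonoid.powers_le.2 hg)).nontrivial
  refine IsLocalRing.of_isUnit_or_isUnit_one_sub_self fun x => ?_
  obtain ⟨⟨a, s⟩, hx⟩ := IsLocalization.surj (Submonoid.powers g) x
  obtain ⟨k, hk⟩ := s.2
  have hgu : IsUnit (algebraMap A B g) := IsLocalization.Away.algebraMap_isUnit g
  have hxk : x * algebraMap A B g ^ k = algebraMap A B a := by
    rw [← map_pow]; exact (congrArg (fun t => x * algebraMap A B t) hk).trans hx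
  by_cases hdiv : ∃ N, a ∣ g ^ N
  · obtain ⟨N, hN⟩ := hdiv
    left
    exact isUnit_of_mul_isUnit_left (hxk ▸ isUnit_of_dvd_unit (map_dvd _ hN) (by rw [map_pow]; exact hgu.pow N))
  · right
    push Not at hdiv
    refine isUnit_of_mul_isUnit_left (y := algebraMap A B g ^ k) ?_
    rw [sub_mul, one_mul, hxk, ← map_pow, ← map_sub]
    by_cases hgA : IsUnit g
    · refine IsUnit.map _ ?_
      have hna : a ∈ IsLocalRing.maximalIdeal A := fun ha => hdiv 0 (by rw [pow_zero]; exact ha.dvd)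
      by_contra hc
      have h1 : g ^ k ∈ IsLocalRing.maximalIdeal A := by
        have := Ideal.add_mem _ ((IsLocalRing.mem_maximalIdeal _).2 hc) hna
        rwa [sub_add_cancel] at this
      exact (IsLocalRing.mem_maximalIdeal _).1 h1 (hgA.pow k)
    · obtain ⟨c, hc⟩ := (dvd_pow_or H a (k + 1)).resolve_left (hdiv _)
      have hu : IsUnit (1 - g * c) := (IsLocalRing.isUnit_or_isUnit_one_sub_self (g * c)).resolve_left
        fun h => hgA (isUnit_of_mul_isUnit_left h)
      rw [hc, show g ^ k - g ^ (k + 1) * c = g ^ k * (1 - g * c) by ring, map_mul, map_pow]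
      exact (hgu.pow k).mul (hu.map _)

variable [IsLocalRing B]

/-- the prime of the closed point of the interior -/
abbrev qIdeal : Ideal A := (IsLocalRing.maximalIdeal B).comap (algebraMap A B)

omit hg H in
theorem exists_dvd_of_notMem {s : A} (hs : s ∉ qIdeal (A := A) (B := B)) : ∃ N, s ∣ g ^ N := by
  have hu : IsUnit (algebraMap A B s) := by
    by_contra h
    exact hs ((IsLocalRing.mem_maximalIdeal _).2 h)
  rw [IsLocalization.algebraMap_isUnit_iff (Submonoid.powers g)] at hu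
  obtain ⟨_, ⟨N, rfl⟩, hN⟩ := hu
  exact ⟨N, hN⟩

omit hg in
theorem pow_dvd_of_mem {a : A} (ha : a ∈ qIdeal (A := A) (B := B)) (n : ℕ) : g ^ n ∣ a :=
  (dvd_pow_or H a n).resolve_left fun h => (IsLocalRing.mem_maximalIdeal _).1 ha
    (isUnit_of_dvd_unit (map_dvd _ h) (by rw [map_pow]; exact (IsLocalization.Away.algebraMap_isUnit g).pow n))

omit hg in
theorem valuationRing_quotient [hp : (qIdeal (A := A) (B := B)).IsPrime] : ValuationRing (A ⧸ qIdeal (A := A) (B := B)) := by
  refine ValuationRing.iff_dvd_total.2 ⟨fun x y => ?_⟩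
  obtain ⟨a, rfl⟩ := Ideal.Quotient.mk_surjective x
  obtain ⟨b, rfl⟩ := Ideal.Quotient.mk_surjective y
  by_cases ha : a ∈ qIdeal (A := A) (B := B)
  · right; rw [Ideal.Quotient.eq_zero_iff_mem.2 ha]; exact dvd_zero _
  · obtain ⟨N, hN⟩ := exists_dvd_of_notMem (g := g) ha
    obtain ⟨c, hc⟩ := hN
    exact (H a b N (Ideal.mem_span_pair.2 ⟨c, 0, by rw [hc]; ring⟩)).imp (map_dvd _) (map_dvd _)

theorem bijOn (L : Type*) [CommRing L] [Algebra A L] [hp : (qIdeal (A := A) (B := B)).IsPrime]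
    [IsLocalization.AtPrime L (qIdeal (A := A) (B := B))] [IsLocalRing L] :
    Set.BijOn (algebraMap A L) (qIdeal (A := A) (B := B) : Set A) (IsLocalRing.maximalIdeal L : Set L) := by
  let q := qIdeal (A := A) (B := B)
  refine ⟨fun a ha => (IsLocalization.AtPrime.to_map_mem_maximal_iff L q a).2 ha, fun a _ b _ hab => ?_, fun x hx => ?_⟩
  · obtain ⟨⟨s, hs⟩, hsab⟩ := (IsLocalization.eq_iff_exists q.primeCompl L).1 hab
    obtain ⟨N, c, hc⟩ := exists_dvd_of_notMem (g := g) (B := B) hs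
    have h0 : g ^ N * (a - b) = 0 := by
      have h' : s * a = s * b := hsab
      rw [hc]; linear_combination c * h'
    exact sub_eq_zero.1 ((mem_nonZeroDivisors_iff.1 (pow_mem hg N)).1 _ h0)
  · obtain ⟨⟨a, ⟨s, hs⟩⟩, hxa⟩ := IsLocalization.surj q.primeCompl x
    have ha : a ∈ q := (IsLocalization.AtPrime.to_map_mem_maximal_iff L q a).1 (hxa ▸ Ideal.mul_mem_right _ _ hx)
    obtain ⟨N, hN⟩ := exists_dvd_of_notMem (g := g) (B := B) hs
    obtain ⟨c, hc⟩ := hN.trans (pow_dvd_of_mem H ha N)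
    refine ⟨c, (hp.mem_or_mem (hc ▸ ha : s * c ∈ q)).resolve_left hs, ?_⟩
    refine (IsLocalization.map_units (M := q.primeCompl) L ⟨s, hs⟩).mul_left_inj.1 ?_
    exact (by rw [← map_mul, mul_comm c s, ← hc]; exact hxa.symm)

end Groth.Agent.ModPairLocal
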