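import Groth.Agent.ModPairLocal.Basic
import Mathlib

/-!
# Local modulus pairs are glued from a valuation ring and a local interior
-/

set_option autoImplicit false
set_option backward.isDefEq.respectTransparency false
set_option backward.isDefEq.respectTransparency.types false
set_option linter.style.haveILetI false

universe u

open CategoryTheory Limits AlgebraicGeometry ModPair

namespace Groth.Agent.ModPairLocal

theorem isAffine_interior (P : Pair.{u}) [IsAffine P.total] [IsLocalRing Γ(P.total, ⊤)] :
    IsAffine (ModPair.interior P.mod : Scheme.{u}) := by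
  obtain ⟨g, -, -, hint⟩ := exists_generator P
  show IsAffineOpen (ModPair.interior P.mod)
  rw [hint]
  exact (isAffineOpen_top _).basicOpen g

theorem forward (P : Pair.{u}) [IsAffine P.total] [IsLocalRing Γ(P.total, ⊤)] (hb : BlowLocal P) :
    IsLocalRing Γ((ModPair.interior P.mod : Scheme.{u}), ⊤) ∧
      ∀ p : (ModPair.interior P.mod : Scheme.{u}), IsClosed ({p} : Set (ModPair.interior P.mod : Scheme.{u})) →
        ValuationRing (Γ(P.total, ⊤) ⧸ (P.total.toSpecΓ.base ((ModPair.interior P.mod).ι.base p)).asIdeal) ∧
          Set.BijOn (algebraMap Γ(P.total, ⊤)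
              (Localization.AtPrime (P.total.toSpecΓ.base ((ModPair.interior P.mod).ι.base p)).asIdeal))
            ((P.total.toSpecΓ.base ((ModPair.interior P.mod).ι.base p)).asIdeal : Set Γ(P.total, ⊤))
            (IsLocalRing.maximalIdeal
              (Localization.AtPrime (P.total.toSpecΓ.base ((ModPair.interior P.mod).ι.base p)).asIdeal) :
              Set (Localization.AtPrime (P.total.toSpecΓ.base ((ModPair.interior P.mod).ι.base p)).asIdeal)) := by
  obtain ⟨g, hg, -, hint⟩ := exists_generator P
  let A := Γ(P.total, ⊤)
  let B := Γ((ModPair.interior P.mod : Scheme.{u}), ⊤)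
  letI : Algebra A B := interiorAlg P
  haveI : IsLocalization.Away g B := isLocalization_basic g (ModPair.interior P.mod) hint
  have H := dvd_or_dvd P hb hg hint
  haveI hB : IsLocalRing B := isLocalRing hg H
  haveI := isAffine_interior P
  refine ⟨hB, fun p hp => ?_⟩
  have hq : (P.total.toSpecΓ.base ((ModPair.interior P.mod).ι.base p)).asIdeal = qIdeal (A := A) (B := B) := by
    rw [eq_closedPt p hp, toSpecΓ_closedPt P]
    rfl
  haveI hprime : (qIdeal (A := A) (B := B)).IsPrime := Ideal.IsPrime.comap _
  refine ⟨?_, ?_⟩
  · have := valuationRing_quotient (g := g) (B := B) H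
    have key : ∀ (J : Ideal A) [J.IsPrime], J = qIdeal (A := A) (B := B) → ValuationRing (A ⧸ J) := by
      intro J _ hJ
      subst hJ
      exact this
    exact key _ hq
  · have key : ∀ (J : Ideal A) [J.IsPrime], J = qIdeal (A := A) (B := B) →
        Set.BijOn (algebraMap A (Localization.AtPrime J)) (J : Set A)
          (IsLocalRing.maximalIdeal (Localization.AtPrime J) : Set (Localization.AtPrime J)) := by
      intro J _ hJ
      subst hJ
      exact bijOn hg H _
    exact key _ hq

end Groth.Agent.ModPairLocal
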