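import Groth.Agent.ModPairLocal.Lattice
import Groth.Agent.ModPairLocal.Cover
import Groth.Agent.EtHens.Basic
import Groth.Agent.S19339
import Mathlib

/-!
# Modulus pairs local for fppf coverings and admissible blow-ups
-/

set_option autoImplicit false
set_option backward.isDefEq.respectTransparency false
set_option backward.isDefEq.respectTransparency.types false
set_option linter.style.haveILetI false

universe u

open CategoryTheory Limits AlgebraicGeometry ModPair

namespace Groth.Agent.ModPairLocal

/-- Flat, of finite presentation. -/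
abbrev fppfProp : MorphismProperty Scheme.{u} :=
  @Flat ⊓ @LocallyOfFinitePresentation ⊓ @QuasiCompact ⊓ @QuasiSeparated

instance : (fppfProp.{u}).IsStableUnderBaseChange := by
  constructor
  rintro X Y S T f g f' g' sq ⟨⟨⟨h₁, h₂⟩, h₃⟩, h₄⟩
  exact ⟨⟨⟨MorphismProperty.of_isPullback sq h₁, MorphismProperty.of_isPullback sq h₂⟩,
    MorphismProperty.of_isPullback sq h₃⟩, MorphismProperty.of_isPullback sq h₄⟩

theorem fppf_of_openImmersion {Y Z : Scheme.{u}} (f : Y ⟶ Z) (h₁ : IsOpenImmersion f) (h₂ : QuasiCompact f) :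
    fppfProp f :=
  ⟨⟨⟨inferInstance, inferInstance⟩, h₂⟩, inferInstance⟩

/-- Finite free algebras over an fppf local affine scheme have retractions. -/
theorem exists_algHom_of_free {T : Scheme.{u}} [IsAffine T] (h : SchLocal fppfProp T) (C : Type u) [CommRing C]
    [Algebra Γ(T, ⊤) C] [Module.Finite Γ(T, ⊤) C] [Module.Free Γ(T, ⊤) C]
    (hinj : Function.Injective (algebraMap Γ(T, ⊤) C)) : Nonempty (C →ₐ[Γ(T, ⊤)] Γ(T, ⊤)) := by
  let φ : Γ(T, ⊤) ⟶ CommRingCat.of C := CommRingCat.ofHom (algebraMap Γ(T, ⊤) C)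
  haveI : Module.FinitePresentation Γ(T, ⊤) C := Module.finitePresentation_of_projective _ _
  have hfl : Flat (Spec.map φ) := by
    rw [HasRingHomProperty.Spec_iff (P := @Flat), CommRingCat.hom_ofHom, RingHom.flat_algebraMap_iff]
    infer_instance
  have hfp : LocallyOfFinitePresentation (Spec.map φ) := by
    rw [HasRingHomProperty.Spec_iff (P := @LocallyOfFinitePresentation), CommRingCat.hom_ofHom,
      RingHom.finitePresentation_algebraMap]
    infer_instance
  haveI := hfl
  haveI := hfp
  obtain ⟨σ, hσ⟩ := exists_retraction h φ ⟨⟨⟨inferInstance, inferInstance⟩, inferInstance⟩, inferInstance⟩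
    (RingHom.IsIntegral.comap_surjective (f := algebraMap Γ(T, ⊤) C)
      (algebraMap_isIntegral_iff.2 inferInstance) hinj)
  exact ⟨{ σ.hom with commutes' := fun a => ConcreteCategory.congr_hom hσ a }⟩

/-- Absolute integral closedness from retractions of finite free algebras. -/
theorem isAIC_of_retractions {A : Type u} [CommRing A]
    (hA : ∀ (C : Type u) [CommRing C] [Algebra A C], Module.Finite A C → Module.Free A C →
      Function.Injective (algebraMap A C) → Nonempty (C →ₐ[A] A)) : Curves.IsAIC A := by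
  intro f hf hd
  haveI : Nontrivial A := Polynomial.nontrivial_iff.1 ⟨⟨f, 0, fun h => by rw [h] at hd; simp at hd⟩⟩
  have hinj : Function.Injective (algebraMap A (AdjoinRoot f)) := by
    refine (injective_iff_map_eq_zero _).2 fun a ha => ?_
    by_contra ha0
    have h1 : f ∣ Polynomial.C a := AdjoinRoot.mk_eq_zero.1 ha
    have h2 : (Polynomial.C a).natDegree < f.natDegree := by rw [Polynomial.natDegree_C]; exact hd
    exact hf.not_dvd_of_natDegree_lt (Polynomial.C_ne_zero.2 ha0) h2 h1
  obtain ⟨σ⟩ := hA (AdjoinRoot f) hf.finite_adjoinRoot hf.free_adjoinRoot hinj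
  refine ⟨σ (AdjoinRoot.root f), ?_⟩
  have h0 := congrArg σ (AdjoinRoot.aeval_eq f (R := A) ▸ AdjoinRoot.mk_self (f := f) : Polynomial.aeval (AdjoinRoot.root f) f = 0)
  rwa [← Polynomial.aeval_algHom_apply, map_zero, Polynomial.coe_aeval_eq_eval] at h0

/-- Finite flat algebras over the localisation have retractions. -/
theorem exists_retraction_lattice {A B : Type u} [CommRing A] [CommRing B] [IsLocalRing B] [Algebra A B] {g : A}
    (hg : g ∈ nonZeroDivisors A) [IsLocalization.Away g B]
    (H : ∀ a b : A, ∀ n : ℕ, g ^ n ∈ Ideal.span {a, b} → a ∣ b ∨ b ∣ a)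
    (hA : ∀ (C : Type u) [CommRing C] [Algebra A C], Module.Finite A C → Module.Free A C →
      Function.Injective (algebraMap A C) → Nonempty (C →ₐ[A] A))
    (V : Type u) [CommRing V] [Algebra B V] [Module.Finite B V] [Module.Flat B V] [Nontrivial V] :
    Nonempty (V →ₐ[B] B) := by
  haveI : Module.Free B V := Module.free_of_flat_of_isLocalRing
  letI : Algebra A V := ((algebraMap B V).comp (algebraMap A B)).toAlgebra
  haveI : IsScalarTower A B V := IsScalarTower.of_algebraMap_eq' rfl
  obtain ⟨C, hfin, hfree, hspan⟩ := exists_free_model (B := B) H hg V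
  have hAB : Function.Injective (algebraMap A B) := IsLocalization.injective B (Submonoid.powers_le.2 hg)
  have hBV : Function.Injective (algebraMap B V) := by
    let b := Module.finBasis B V
    haveI : Nonempty (Fin (Module.finrank B V)) := b.index_nonempty
    obtain ⟨i⟩ := ‹Nonempty (Fin (Module.finrank B V))›
    refine (injective_iff_map_eq_zero _).2 fun x hx => ?_
    have h1 : x • b i = 0 := by rw [Algebra.smul_def, hx, zero_mul]
    simpa using congrArg (fun z => b.repr z i) h1
  have hinj : Function.Injective (algebraMap A C) := fun x y h =>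
    hAB (hBV (congrArg Subtype.val h))
  obtain ⟨σ⟩ := hA C hfin hfree hinj
  have hgu : IsUnit (algebraMap A V g) := (IsLocalization.Away.algebraMap_isUnit (S := B) g).map (algebraMap B V)
  letI : Algebra C V := C.val.toRingHom.toAlgebra
  haveI : IsLocalization.Away (algebraMap A C g) V := by
    refine ⟨⟨fun s => ?_, fun x => ?_, fun h => ⟨1, congrArg _ (Subtype.ext h)⟩⟩⟩
    · obtain ⟨_, N, rfl⟩ := s
      show IsUnit (((algebraMap A C g) ^ N : C) : V)
      rw [SubmonoidClass.coe_pow]
      exact hgu.pow N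
    · obtain ⟨N, hN⟩ := hspan x
      refine ⟨⟨⟨_, hN⟩, ⟨_, N, rfl⟩⟩, ?_⟩
      show x * (((algebraMap A C g) ^ N : C) : V) = g ^ N • x
      rw [SubmonoidClass.coe_pow, Algebra.smul_def, map_pow, mul_comm]
      rfl
  let τ : V →+* B := IsLocalization.Away.lift (algebraMap A C g) (g := (algebraMap A B).comp σ.toRingHom)
    (by rw [RingHom.comp_apply, AlgHom.toRingHom_eq_coe, RingHom.coe_coe, AlgHom.commutes]
        exact IsLocalization.Away.algebraMap_isUnit g)
  have hτ : τ.comp (algebraMap B V) = RingHom.id B := by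
    refine IsLocalization.ringHom_ext (Submonoid.powers g) (RingHom.ext fun a => ?_)
    show τ (algebraMap C V (algebraMap A C a)) = algebraMap A B a
    rw [IsLocalization.Away.lift_eq, RingHom.comp_apply, AlgHom.toRingHom_eq_coe, RingHom.coe_coe, AlgHom.commutes]
    rfl
  exact ⟨{ τ with commutes' := fun b => RingHom.congr_fun hτ b }⟩

/-- A neighbourhood of the closed point with trivial residue extension has a section. -/
theorem exists_section_residue {R : Type u} [CommRing R] [HenselianLocalRing R] {U : Scheme.{u}}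
    (f : U ⟶ Spec (CommRingCat.of R)) [Etale f] (y : U) (hy : f y = IsLocalRing.closedPoint R)
    [IsIso (f.residueFieldMap y)] : ∃ s, s ≫ f = 𝟙 _ := by
  let K := IsLocalRing.ResidueField R
  let p := EtHens.pt R
  have hz : f y = p (IsLocalRing.closedPoint K) := by
    rw [hy]; exact (IsLocalRing.comap_closedPoint (IsLocalRing.residue R)).symm
  let d : (Spec (CommRingCat.of R)).residueField (p (IsLocalRing.closedPoint K)) ⟶ CommRingCat.of K :=
    Scheme.descResidueField (Scheme.stalkClosedPointTo p)
  have hd : Spec.map d ≫ (Spec (CommRingCat.of R)).fromSpecResidueField _ = p :=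
    Scheme.descResidueField_stalkClosedPointTo_fromSpecResidueField K _ p
  let m : Spec (CommRingCat.of K) ⟶ U :=
    Spec.map (inv (f.residueFieldMap y) ≫ ((Spec (CommRingCat.of R)).residueFieldCongr hz).hom ≫ d) ≫
      U.fromSpecResidueField y
  have hm : m ≫ f = p := by
    simp only [m, Category.assoc]
    rw [← Scheme.Hom.SpecMap_residueFieldMap_fromSpecResidueField, ← Spec.map_comp_assoc, IsIso.hom_inv_id_assoc,
      Spec.map_comp, Category.assoc, Scheme.residueFieldCongr_fromSpecResidueField, hd]
  obtain ⟨s, hs, -⟩ := EtHens.exists_section R (Scheme.Etale.mk f) (Over.homMk m hm)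
  exact ⟨s, hs⟩

theorem schLocal_of_local {R : Type u} [CommRing R] [HenselianLocalRing R]
    (hret : ∀ (V : Type u) [CommRing V] [Algebra R V], Module.Finite R V → Module.Flat R V → Nontrivial V →
      Nonempty (V →ₐ[R] R))
    {T : Scheme.{u}} (e : T ≅ Spec (CommRingCat.of R)) : SchLocal fppfProp T := by
  intro X Rp hR g₀
  let g := e.inv ≫ g₀
  let S := Spec (CommRingCat.of R)
  have hc : ∀ x : S, ∃ (Y : Scheme.{u}) (w : Y ⟶ X), Rp w ∧ g x ∈ Set.range w ∧ fppfProp w := fun x => by
    have h1 := hR.1
    rw [Scheme.jointlySurjectivePrecoverage, Presieve.mem_comap_jointlySurjectivePrecoverage_iff] at h1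
    obtain ⟨Y, w, hw, y, hy⟩ := h1 (g x)
    exact ⟨Y, w, hw, ⟨y, hy⟩, hR.2 hw⟩
  choose Y w hRw hmem hP using hc
  obtain ⟨κ, U, V, a, b, ha, hpts, hb, hfac⟩ := S19339.result (X := S) (fun x => pullback g (w x))
    (fun x => pullback.fst g (w x)) ((Scheme.ofArrows_mem_precoverage_iff _).2 ⟨fun x => by
      obtain ⟨y, hy⟩ := hmem x
      obtain ⟨z, hz, -⟩ := Scheme.Pullback.exists_preimage_pullback (f := g) (g := w x) x y hy.symm
      exact ⟨x, z, hz⟩, fun x => MorphismProperty.pullback_fst (P := fppfProp) _ _ (hP x)⟩)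
  obtain ⟨k, y, hy, hres⟩ := hpts (IsLocalRing.closedPoint R)
  haveI := ha k
  haveI := hres
  obtain ⟨s, hs⟩ := exists_section_residue (a k) y hy
  obtain ⟨j, r, hr⟩ := hfac k
  haveI := (hb k).1
  haveI := (hb k).2.1
  haveI := (hb k).2.2
  let π := pullback.fst s (b k)
  haveI : IsFinite π := MorphismProperty.pullback_fst (P := @IsFinite) _ _ inferInstance
  haveI : Flat π := MorphismProperty.pullback_fst (P := @Flat) _ _ inferInstance
  haveI : Surjective π := MorphismProperty.pullback_fst (P := @Surjective) _ _ inferInstance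
  haveI : IsAffine (pullback s (b k)) := isAffine_of_isAffineHom π
  obtain ⟨φ, hφ⟩ := Spec.map_surjective ((pullback s (b k)).isoSpec.inv ≫ π)
  letI : Algebra R Γ(pullback s (b k), ⊤) := φ.hom.toAlgebra
  have hfin : Module.Finite R Γ(pullback s (b k), ⊤) := by
    show φ.hom.Finite
    rw [← IsFinite.SpecMap_iff, hφ]; infer_instance
  have hflat : Module.Flat R Γ(pullback s (b k), ⊤) := by
    show φ.hom.Flat
    rw [← HasRingHomProperty.Spec_iff (P := @Flat), hφ]; infer_instance
  have hnt : Nontrivial Γ(pullback s (b k), ⊤) := by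
    obtain ⟨z, -⟩ := π.surjective (IsLocalRing.closedPoint R)
    exact PrimeSpectrum.nonempty_iff_nontrivial.1 ⟨(pullback s (b k)).isoSpec.hom z⟩
  obtain ⟨σ⟩ := hret _ hfin hflat hnt
  let t : S ⟶ pullback s (b k) := Spec.map (CommRingCat.ofHom σ.toRingHom) ≫ (pullback s (b k)).isoSpec.inv
  have ht : t ≫ π = 𝟙 _ := by
    show (Spec.map _ ≫ _) ≫ π = _
    rw [Category.assoc, ← hφ, ← Spec.map_comp, ← Spec.map_id]
    congr 1
    ext x
    exact σ.commutes x
  refine ⟨Y j, w j, e.hom ≫ t ≫ pullback.snd s (b k) ≫ r ≫ pullback.snd g (w j), hRw j, ?_⟩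
  simp only [Category.assoc]
  rw [← pullback.condition, reassoc_of% hr, ← pullback.condition_assoc, reassoc_of% hs]
  show e.hom ≫ t ≫ π ≫ g = g₀
  rw [reassoc_of% ht]
  exact Iso.hom_inv_id_assoc _ _

end Groth.Agent.ModPairLocal
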